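import Cfsg.Agent.RootSub.Dickson.Defs

/-!
# Translations of a subgroup of SL₂ and generation
-/

namespace Cfsg.Agent.RootSub.Dickson

open Matrix
open scoped MatrixGroups

theorem ext_entries {A : Type*} [CommRing A] {g h : SL(2, A)} (h00 : g 0 0 = h 0 0)
    (h01 : g 0 1 = h 0 1) (h10 : g 1 0 = h 1 0) (h11 : g 1 1 = h 1 1) : g = h := by
  apply Subtype.ext
  ext i j
  fin_cases i <;> fin_cases j <;> assumption

/-- The group of translations of a subgroup. -/
def transGroup {A : Type*} [CommRing A] (P : Subgroup SL(2, A)) : AddSubgroup A where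
  carrier := {r | upR r ∈ P}
  zero_mem' := by simp [upR_zero, one_mem]
  add_mem' := by
    intro a b ha hb
    show upR (a + b) ∈ P
    rw [upR_add]; exact mul_mem ha hb
  neg_mem' := by
    intro a ha
    show upR (-a) ∈ P
    rw [← upR_inv]; exact inv_mem ha

theorem mem_transGroup {A : Type*} [CommRing A] {P : Subgroup SL(2, A)} {r : A} :
    r ∈ transGroup P ↔ upR r ∈ P := Iff.rfl

theorem det2 {A : Type*} [CommRing A] (g : SL(2, A)) :
    g 0 0 * g 1 1 - g 0 1 * g 1 0 = 1 := by rw [← Matrix.det_fin_two]; exact g.2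

theorem conj_upR {A : Type*} [CommRing A] {γ : SL(2, A)} (h : γ 0 0 = 0) (r : A) :
    γ * upR r * γ⁻¹ = lowR (-(γ 1 0) ^ 2 * r) := by
  have hd := det2 γ
  rw [h] at hd
  rw [mul_inv_eq_iff_eq_mul]
  apply ext_entries <;>
    simp [coe_upR, coe_lowR, Matrix.mul_apply, Fin.sum_univ_two, h]
  all_goals linear_combination (-(r * γ 1 0)) * hd

variable {K : Type*} [Field K]

theorem eq_top_of_trans {P : Subgroup SL(2, K)} (hu : ∀ r, upR r ∈ P) (hl : ∀ r, lowR r ∈ P) :
    P = ⊤ := by
  have key : ∀ g : SL(2, K), g 1 0 ≠ 0 → g ∈ P := by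
    intro g hc
    have hd := det2 g
    have : g = upR ((g 0 0 - 1) / g 1 0) * lowR (g 1 0) * upR ((g 1 1 - 1) / g 1 0) := by
      apply ext_entries <;>
        simp [coe_upR, coe_lowR, Matrix.mul_apply, Fin.sum_univ_two]
      all_goals (field_simp; ring_nf)
      all_goals linear_combination -hd
    rw [this]
    exact mul_mem (mul_mem (hu _) (hl _)) (hu _)
  rw [eq_top_iff]
  intro g _
  by_cases hc : g 1 0 = 0
  · have h00 : g 0 0 ≠ 0 := fun h => by
      have := det2 g
      simp [h, hc] at this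
    have h1 : lowR 1 * g ∈ P := key _ (by
      simpa [coe_lowR, Matrix.mul_apply, Fin.sum_univ_two, hc] using h00)
    have := mul_mem (inv_mem (hl 1)) h1
    simpa [← mul_assoc] using this
  · exact key g hc

/-- All translations and one element interchanging the points 0 and ∞ give everything. -/
theorem eq_top_of_weyl {P : Subgroup SL(2, K)} (hu : ∀ r, upR r ∈ P) {γ : SL(2, K)} (hγ : γ ∈ P)
    (h00 : γ 0 0 = 0) : P = ⊤ := by
  have h10 : γ 1 0 ≠ 0 := fun h => by
    have := det2 γ
    simp [h00, h] at this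
  refine eq_top_of_trans hu fun r => ?_
  have := mul_mem (mul_mem hγ (hu (-r / γ 1 0 ^ 2))) (inv_mem hγ)
  rw [conj_upR h00] at this
  convert this using 2
  field_simp

end Cfsg.Agent.RootSub.Dickson
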