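import Cfsg.Agent.RootSub.Dickson.Orth

/-!
# Dickson's theorem over an infinite field
-/

namespace Cfsg.Agent.RootSub.Dickson

open Polynomial
open scoped MatrixGroups

variable {k K : Type*} [Field k] [Field K] [Algebra k K]
variable {m : ℕ} {lam : K} (b : Module.Basis (Fin (m + 1)) k K) (hb : ∀ i, b i = lam ^ (i : ℕ))

include hb

theorem repr_aeval {f : k[X]} (hf : f.natDegree ≤ m) (i : Fin (m + 1)) :
    b.repr (aeval lam f) i = f.coeff i := by
  have : aeval lam f = ∑ j : Fin (m + 1), f.coeff j • b j := by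
    rw [aeval_eq_sum_range' (n := m + 1) (by omega), Finset.sum_range]
    exact Finset.sum_congr rfl fun j _ => by rw [hb]
  rw [this, Module.Basis.repr_sum_self]

theorem aeval_eq_zero_of_orth {φ : K →ₗ[k] k} (hφ : φ ≠ 0) (hlam : lam ≠ 0) {s : ℕ} {x : K}
    (h : ∀ i < m + 1, φ (x * lam ^ (i + s)) = 0) : x = 0 := by
  by_contra hx
  apply hφ
  have hzero : φ.comp (LinearMap.mulLeft k (x * lam ^ s)) = 0 := by
    refine b.ext fun i => ?_
    simp only [LinearMap.comp_apply, LinearMap.mulLeft_apply, hb, LinearMap.zero_apply]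
    rw [mul_assoc, ← pow_add, add_comm]
    exact h i i.2
  refine LinearMap.ext fun v => ?_
  have := LinearMap.congr_fun hzero ((x * lam ^ s)⁻¹ * v)
  simp only [LinearMap.comp_apply, LinearMap.mulLeft_apply, LinearMap.zero_apply] at this
  rwa [mul_inv_cancel_left₀ (mul_ne_zero hx (pow_ne_zero s hlam))] at this

theorem nonDegAt_top {φ : K →ₗ[k] k} (hφ : φ ≠ 0) (hlam : lam ≠ 0) (s : ℕ) :
    NonDegAt φ lam s (m + 1) := by
  intro f hf h
  have h0 := aeval_eq_zero_of_orth b hb hφ hlam h
  by_contra hf0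
  rw [← natDegree_lt_iff_degree_lt hf0] at hf
  apply hf0
  ext i
  rcases Nat.lt_or_ge i (m + 1) with hi | hi
  · have := repr_aeval b hb (f := f) (by omega) ⟨i, hi⟩
    rw [h0, map_zero] at this
    simpa using this.symm
  · rw [coeff_eq_zero_of_natDegree_lt (by omega), coeff_zero]

theorem nonDegAt_coord (s j : ℕ) (hj : 0 < j) (ht : j - 1 + s < m + 1) :
    NonDegAt (b.coord ⟨j - 1 + s, ht⟩) lam s j := by
  intro f hf h
  by_contra hf0
  rw [← natDegree_lt_iff_degree_lt hf0] at hf
  have h' := h (j - 1 - f.natDegree) (by omega)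
  rw [Module.Basis.coord_apply, ← aeval_X_pow (R := k) lam, ← map_mul] at h'
  have hdeg : (f * X ^ (j - 1 - f.natDegree + s)).natDegree = j - 1 + s := by
    rw [natDegree_mul hf0 (pow_ne_zero _ X_ne_zero), natDegree_X_pow]; omega
  rw [repr_aeval b hb (by omega)] at h'
  simp only at h'
  have hi : j - 1 + s = f.natDegree + (j - 1 - f.natDegree + s) := by omega
  rw [hi, coeff_mul_X_pow] at h'
  exact hf0 (leadingCoeff_eq_zero.mp h')

/-- A generic element gives an element of the Dickson group sending ∞ to 0. -/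
theorem exists_gamma {φ : K →ₗ[k] k} (hφ : φ ≠ 0) (hlam : lam ≠ 0)
    (hG : ∀ i ≤ m, NonDegAt φ lam 0 i) (hH : ∀ i ≤ m, NonDegAt φ lam 1 i) {q : K} (hq : q ≠ 0)
    (hvan : ∀ i < m, φ (lam ^ (i + 1) * q) = 0) :
    ∃ g ∈ dicksonGroup k lam, ∃ c : k, c ≠ 0 ∧
      g 0 0 = 0 ∧ g 1 0 = algebraMap k K c * (lam * q) := by
  have hG' : ∀ i ≤ m + 1, NonDegAt φ lam 0 i := fun i hi => by
    rcases Nat.lt_or_ge i (m + 1) with h | h
    · exact hG i (by omega)
    · obtain rfl : i = m + 1 := by omega
      exact nonDegAt_top b hb hφ hlam 0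
  have hH' : ∀ i ≤ m + 1, NonDegAt φ lam 1 i := fun i hi => by
    rcases Nat.lt_or_ge i (m + 1) with h | h
    · exact hH i (by omega)
    · obtain rfl : i = m + 1 := by omega
      exact nonDegAt_top b hb hφ hlam 1
  obtain ⟨p, hp⟩ := exists_isOrth (hG' m (by omega))
  obtain ⟨qm, hqm⟩ := exists_isOrth (hH' m (by omega))
  obtain ⟨p', hp'⟩ := exists_isOrth (hG' (m + 1) le_rfl)
  obtain ⟨e, he, hpe⟩ := step_p (hG' m (by omega)) (hH' (m + 1) le_rfl) hp hqm hp'
  obtain ⟨g, hg, c, c', hc, hc', h00, h10⟩ := exists_path hG' hH' m le_rfl p qm hp hqm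
  have hp0 : aeval lam p' = 0 :=
    aeval_eq_zero_of_orth b hb hφ hlam (s := 0) fun i hi => hp'.orth i hi
  -- q is a multiple of q_m
  obtain ⟨f, hfdeg, hfq⟩ : ∃ f : k[X], f.natDegree ≤ m ∧ aeval lam f = q := by
    refine ⟨∑ i : Fin (m + 1), C (b.repr q i) * X ^ (i : ℕ), ?_, ?_⟩
    · refine natDegree_sum_le_of_forall_le _ _ fun i _ => ?_
      exact (natDegree_C_mul_X_pow_le _ _).trans (by have := i.2; omega)
    · rw [map_sum]
      conv_rhs => rw [← b.sum_repr q]
      refine Finset.sum_congr rfl fun i _ => ?_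
      rw [map_mul, aeval_C, map_pow, aeval_X, hb, Algebra.smul_def]
  have hfC := eq_C_mul_of_orth (hH' m (by omega)) hqm hfdeg fun i hi => by
    rw [hfq, mul_comm]; exact hvan i hi
  set a := f.coeff m
  have hq' : q = algebraMap k K a * aeval lam qm := by
    rw [← hfq, hfC, map_mul, aeval_C]
  have ha : a ≠ 0 := fun h => hq (by rw [hq', h, map_zero, zero_mul])
  set t : k := -c / (e * c') with ht
  have hcte : c = -(t * c' * e) := by rw [ht]; field_simp
  have hcK : algebraMap k K c = -(algebraMap k K t * algebraMap k K c' * algebraMap k K e) := by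
    rw [← map_mul, ← map_mul, ← map_neg, ← hcte]
  refine ⟨upR (algebraMap k K t) * g, mul_mem (upR_mem k lam t) hg, c' * a⁻¹,
    mul_ne_zero hc' (inv_ne_zero ha), ?_, ?_⟩
  · have hP : aeval lam p' = lam * aeval lam qm - algebraMap k K e * aeval lam p := by
      rw [hpe]; simp
    simp [coe_upR, Matrix.mul_apply, Fin.sum_univ_two, h00, h10]
    linear_combination aeval lam p * hcK + algebraMap k K t * algebraMap k K c' * hp0 -
      algebraMap k K t * algebraMap k K c' * hP
  · simp [coe_upR, Matrix.mul_apply, Fin.sum_univ_two, h10, hq', map_inv₀]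
    have : algebraMap k K a ≠ 0 := by simpa using ha
    field_simp

omit hb

variable (lam)

/-- The functional attached to an element q: v ↦ det(v, λq, ..., λ^m q). -/
noncomputable def phiOf (q : K) : K →ₗ[k] k :=
  b.det.toMultilinearMap.toLinearMap (Fin.cons 0 fun a : Fin m => lam ^ ((a : ℕ) + 1) * q) 0

/-- The same as a polynomial in the coordinates of q. -/
noncomputable def phiPoly (v : K) : MvPolynomial (Fin (m + 1)) k :=
  Matrix.det (Matrix.of fun i j => Fin.cases (MvPolynomial.C (b.repr v i))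
    (fun a : Fin m => ∑ t, MvPolynomial.X t *
      MvPolynomial.C (b.repr (lam ^ ((a : ℕ) + 1) * b t) i)) j)

/-- Hankel determinants as polynomials. -/
noncomputable def hankelPoly (s j : ℕ) : MvPolynomial (Fin (m + 1)) k :=
  Matrix.det (Matrix.of fun a a' : Fin j => phiPoly lam b (lam ^ ((a : ℕ) + (a' : ℕ) + s)))

theorem phiOf_apply (q v : K) :
    phiOf lam b q v = b.det (Fin.cons v fun a : Fin m => lam ^ ((a : ℕ) + 1) * q) := by
  simp [phiOf, Fin.update_cons_zero]

theorem phiOf_vanish (q : K) (a : Fin m) : phiOf lam b q (lam ^ ((a : ℕ) + 1) * q) = 0 := by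
  rw [phiOf_apply]
  exact AlternatingMap.map_eq_zero_of_eq _ _ (i := 0) (j := a.succ) (by simp)
    (Fin.succ_ne_zero a).symm

theorem eval_phiPoly (c : Fin (m + 1) → k) (v : K) :
    MvPolynomial.eval c (phiPoly lam b v) = phiOf lam b (b.equivFun.symm c) v := by
  rw [phiPoly, RingHom.map_det, phiOf_apply, Module.Basis.det_apply]
  congr 1
  ext i j
  refine Fin.cases ?_ (fun a => ?_) j
  · simp [Module.Basis.toMatrix_apply]
  · simp only [RingHom.mapMatrix_apply, Matrix.map_apply, Matrix.of_apply, Fin.cases_succ,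
      Module.Basis.toMatrix_apply, Fin.cons_succ, map_sum, map_mul, MvPolynomial.eval_X,
      MvPolynomial.eval_C, Module.Basis.equivFun_symm_apply, Finset.mul_sum, mul_smul_comm,
      map_smul, Finsupp.coe_finsetSum, Finset.sum_apply, Finsupp.smul_apply, smul_eq_mul]

theorem eval_hankelPoly (c : Fin (m + 1) → k) (s j : ℕ) :
    MvPolynomial.eval c (hankelPoly lam b s j) ≠ 0 ↔
      NonDegAt (phiOf lam b (b.equivFun.symm c)) lam s j := by
  classical
  set φ := phiOf lam b (b.equivFun.symm c)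
  set M : Matrix (Fin j) (Fin j) k :=
    Matrix.of fun a a' : Fin j => φ (lam ^ ((a : ℕ) + (a' : ℕ) + s)) with hM
  have hev : MvPolynomial.eval c (hankelPoly lam b s j) = M.det := by
    rw [hankelPoly, RingHom.map_det]
    congr 1
    ext a a'
    simp [hM, eval_phiPoly, φ]
  have hmul : ∀ f : k[X], f.degree < j → ∀ i : Fin j,
      (M.mulVec fun a : Fin j => f.coeff a) i = φ (aeval lam f * lam ^ ((i : ℕ) + s)) := by
    intro f hf i
    by_cases hf0 : f = 0
    · subst hf0; simp [Matrix.mulVec, dotProduct]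
    rw [aeval_eq_sum_range' (n := j) (natDegree_lt_iff_degree_lt hf0 |>.mpr hf), Finset.sum_range,
      Finset.sum_mul, map_sum]
    simp only [Matrix.mulVec, dotProduct]
    refine Finset.sum_congr rfl fun a _ => ?_
    rw [smul_mul_assoc, map_smul, smul_eq_mul, ← pow_add, hM, Matrix.of_apply, mul_comm,
      show (a : ℕ) + ((i : ℕ) + s) = (i : ℕ) + (a : ℕ) + s by omega]
  rw [hev]
  constructor
  · intro hdet f hf h
    have hz : (fun a : Fin j => f.coeff a) = 0 := Matrix.eq_zero_of_mulVec_eq_zero hdet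
      (funext fun i => by rw [hmul f hf i]; exact h i i.2)
    ext i
    rcases Nat.lt_or_ge i j with hi | hi
    · simpa using congrFun hz ⟨i, hi⟩
    · rw [coeff_zero]
      exact (degree_lt_iff_coeff_zero _ _).mp hf i hi
  · intro h hdet
    obtain ⟨v, hv, hv0⟩ := Matrix.exists_mulVec_eq_zero_iff.mpr hdet
    set f : degreeLT k j := (degreeLTEquiv k j).symm v with hf
    have hcoef : ∀ a : Fin j, (f : k[X]).coeff a = v a := fun a => by
      exact congrFun ((degreeLTEquiv k j).apply_symm_apply v) a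
    have hfz : (f : k[X]) = 0 := h _ (mem_degreeLT.mp f.2) fun i hi => by
      rw [← hmul _ (mem_degreeLT.mp f.2) ⟨i, hi⟩,
        show (fun a : Fin j => (f : k[X]).coeff a) = v from funext hcoef, hv0]
      rfl
    exact hv (funext fun a => by rw [← hcoef a, hfz, coeff_zero, Pi.zero_apply])

variable {lam}

include hb

theorem independent_shift (hlam : lam ≠ 0) {q : K} (hq : q ≠ 0) :
    LinearIndependent k (fun a : Fin m => lam ^ ((a : ℕ) + 1) * q) := by
  have h := (b.linearIndependent.comp Fin.castSucc (Fin.castSucc_injective _)).map'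
    (LinearMap.mulLeft k (lam * q))
    (LinearMap.ker_eq_bot.mpr (mul_right_injective₀ (mul_ne_zero hlam hq)))
  have he : (fun a : Fin m => lam ^ ((a : ℕ) + 1) * q) =
      LinearMap.mulLeft k (lam * q) ∘ b ∘ Fin.castSucc := by
    funext a
    simp [hb, pow_succ]
    ring
  rw [he]; exact h

theorem phiOf_apply_ne_zero (hlam : lam ≠ 0) {q v : K} (hq : q ≠ 0)
    (hv : v ∉ Submodule.span k (Set.range fun a : Fin m => lam ^ ((a : ℕ) + 1) * q)) :
    phiOf lam b q v ≠ 0 := by
  have hind : LinearIndependent k (Fin.cons v fun a : Fin m => lam ^ ((a : ℕ) + 1) * q) :=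
    linearIndependent_finCons.mpr ⟨independent_shift b hb hlam hq, hv⟩
  rw [phiOf_apply]
  refine IsUnit.ne_zero ((Module.Basis.is_basis_iff_det b).mp ⟨hind, ?_⟩)
  exact hind.span_eq_top_of_card_eq_finrank (by rw [Module.finrank_eq_card_basis b])

theorem phiOf_ne_zero (hlam : lam ≠ 0) {q : K} (hq : q ≠ 0) : phiOf lam b q ≠ 0 := by
  haveI : FiniteDimensional k K := b.finiteDimensional_of_finite
  have hlt : Submodule.span k (Set.range fun a : Fin m => lam ^ ((a : ℕ) + 1) * q) ≠ ⊤ := by
    intro h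
    have h1 := finrank_span_eq_card (independent_shift b hb hlam hq)
    rw [h, finrank_top, Module.finrank_eq_card_basis b] at h1
    simp at h1
  obtain ⟨v, -, hv⟩ := SetLike.exists_of_lt (lt_top_iff_ne_top.mpr hlt)
  exact fun h => phiOf_apply_ne_zero b hb hlam hq hv (by rw [h]; rfl)

theorem hankelPoly_ne_zero (hlam : lam ≠ 0) (s j : ℕ) (hs : s ≤ 1) (hj : j ≤ m) :
    hankelPoly lam b s j ≠ 0 := by
  haveI : FiniteDimensional k K := b.finiteDimensional_of_finite
  rcases Nat.eq_zero_or_pos j with rfl | hj0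
  · simp [hankelPoly, Matrix.det_fin_zero]
  have ht : j - 1 + s < m + 1 := by omega
  set φ := b.coord ⟨j - 1 + s, ht⟩ with hφ
  let L : K →ₗ[k] (Fin m → k) :=
    LinearMap.pi fun a => φ.comp (LinearMap.mulLeft k (lam ^ ((a : ℕ) + 1)))
  obtain ⟨q, hqker, hq⟩ : ∃ q ∈ LinearMap.ker L, q ≠ 0 := by
    refine Submodule.exists_mem_ne_zero_of_ne_bot (LinearMap.ker_ne_bot_of_finrank_lt ?_)
    rw [Module.finrank_fin_fun, Module.finrank_eq_card_basis b, Fintype.card_fin]
    omega
  have hvan : ∀ a : Fin m, φ (lam ^ ((a : ℕ) + 1) * q) = 0 := fun a =>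
    congrFun (LinearMap.mem_ker.mp hqker) a
  set v0 := b ⟨j - 1 + s, ht⟩ with hv0
  have hφv0 : φ v0 = 1 := by simp [hφ, hv0]
  have hv0n : v0 ∉ Submodule.span k (Set.range fun a : Fin m => lam ^ ((a : ℕ) + 1) * q) := by
    intro h
    have : Submodule.span k (Set.range fun a : Fin m => lam ^ ((a : ℕ) + 1) * q) ≤
        LinearMap.ker φ := Submodule.span_le.mpr (by rintro _ ⟨a, rfl⟩; exact hvan a)
    exact one_ne_zero (hφv0.symm.trans (this h))
  set a := phiOf lam b q v0
  have ha : a ≠ 0 := phiOf_apply_ne_zero b hb hlam hq hv0n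
  have hind : LinearIndependent k (Fin.cons v0 fun a : Fin m => lam ^ ((a : ℕ) + 1) * q) :=
    linearIndependent_finCons.mpr ⟨independent_shift b hb hlam hq, hv0n⟩
  have heq : phiOf lam b q = a • φ := by
    refine (basisOfLinearIndependentOfCardEqFinrank hind
      (by rw [Module.finrank_eq_card_basis b])).ext fun i => ?_
    simp only [coe_basisOfLinearIndependentOfCardEqFinrank]
    refine Fin.cases ?_ (fun a' => ?_) i
    · simp [hφv0, a]
    · simp [phiOf_vanish, hvan]
  intro h0
  have hev := (eval_hankelPoly lam b (b.equivFun q) s j).mpr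
  rw [h0, map_zero, LinearEquiv.symm_apply_apply, heq] at hev
  refine hev (fun f hf h => nonDegAt_coord b hb s j hj0 ht f hf fun i hi => ?_) rfl
  have := h i hi
  rw [LinearMap.smul_apply, smul_eq_mul] at this
  exact (mul_eq_zero.mp this).resolve_left ha

theorem dicksonGroup_eq_top_infinite_basis [Infinite k] (h2 : (2 : K) ≠ 0) (hlam : lam ≠ 0) :
    dicksonGroup k lam = ⊤ := by
  classical
  let F : MvPolynomial (Fin (m + 1)) k :=
    (∏ j ∈ Finset.range (m + 1), hankelPoly lam b 0 j * hankelPoly lam b 1 j) * MvPolynomial.X 0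
  have hF : F ≠ 0 := mul_ne_zero (Finset.prod_ne_zero_iff.mpr fun j hj => mul_ne_zero
    (hankelPoly_ne_zero b hb hlam 0 j (by omega) (by simpa [Nat.lt_succ_iff] using hj))
    (hankelPoly_ne_zero b hb hlam 1 j le_rfl (by simpa [Nat.lt_succ_iff] using hj)))
    (MvPolynomial.X_ne_zero 0)
  set P := dicksonGroup k lam with hP
  have hgam : ∀ c, MvPolynomial.eval c F ≠ 0 → ∃ g ∈ P, ∃ a : k, a ≠ 0 ∧
      g 0 0 = 0 ∧ g 1 0 = algebraMap k K a * (lam * b.equivFun.symm c) ∧
        b.equivFun.symm c ≠ 0 := by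
    intro c hc
    simp only [F, map_mul, map_prod, mul_ne_zero_iff, Finset.prod_ne_zero_iff,
      Finset.mem_range, MvPolynomial.eval_X] at hc
    have hq : b.equivFun.symm c ≠ 0 := by
      intro h
      apply hc.2
      rw [LinearEquiv.map_eq_zero_iff] at h
      rw [h]; rfl
    obtain ⟨g, hg, a, ha, h1, h2'⟩ := exists_gamma b hb (phiOf_ne_zero b hb hlam hq) hlam
      (fun i hi => (eval_hankelPoly lam b c 0 i).mp (hc.1 i (by omega)).1)
      (fun i hi => (eval_hankelPoly lam b c 1 i).mp (hc.1 i (by omega)).2) hq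
      (fun i hi => phiOf_vanish lam b _ ⟨i, hi⟩)
    exact ⟨g, hg, a, ha, h1, h2', hq⟩
  obtain ⟨c0, hc0⟩ : ∃ c, MvPolynomial.eval c F ≠ 0 := by
    by_contra hcon
    push Not at hcon
    exact hF (MvPolynomial.funext fun x => by rw [hcon x, map_zero])
  obtain ⟨g0, hg0, a0, ha0, hg00, hg10, hq0⟩ := hgam c0 hc0
  set q0 := b.equivFun.symm c0
  set S := transGroup P with hS
  have hsq : ∀ c, MvPolynomial.eval c F ≠ 0 → ∀ t : k,
      t • (b.equivFun.symm c / q0) ^ 2 ∈ S := by
    intro c hc t
    obtain ⟨g, hg, a, ha, h00, h10, -⟩ := hgam c hc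
    generalize b.equivFun.symm c = qc at h10 ⊢
    set u : SL(2, K) := g0⁻¹ * g with hu
    have hu10 : u 1 0 = 0 := by
      simp [hu, Matrix.SpecialLinearGroup.coe_inv, Matrix.adjugate_fin_two, Matrix.mul_apply,
        Fin.sum_univ_two, hg00, h00]
    have hne : algebraMap k K a0 ≠ 0 := by simpa using ha0
    have hane : algebraMap k K a ≠ 0 := by simpa using ha
    have hd0 := det2 g0
    rw [hg00, zero_mul, zero_sub, hg10] at hd0
    have hu00 : u 0 0 = algebraMap k K (a / a0) * (qc / q0) := by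
      simp [hu, Matrix.SpecialLinearGroup.coe_inv, Matrix.adjugate_fin_two, Matrix.mul_apply,
        Fin.sum_univ_two, h00, h10]
      field_simp
      linear_combination qc * hd0
    have hdu := det2 u
    rw [hu10, mul_zero, sub_zero] at hdu
    have hconj : ∀ r : K, u * upR r * u⁻¹ = upR (u 0 0 ^ 2 * r) := by
      intro r
      rw [mul_inv_eq_iff_eq_mul]
      apply ext_entries <;>
        simp [coe_upR, Matrix.mul_apply, Fin.sum_univ_two, hu10]
      linear_combination (-(u 0 0) * r) * hdu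
    have hmem := mul_mem (mul_mem (mul_mem (inv_mem hg0) hg)
      (upR_mem k lam (t * (a0 / a) ^ 2))) (inv_mem (mul_mem (inv_mem hg0) hg))
    rw [← hu, hconj, hu00] at hmem
    show upR _ ∈ P
    convert hmem using 2
    rw [Algebra.smul_def, map_mul, map_pow, map_div₀, map_div₀]
    field_simp
  let V : Submodule k K := Submodule.span k
    {x | ∃ c, MvPolynomial.eval c F ≠ 0 ∧ (b.equivFun.symm c / q0) ^ 2 = x}
  have hVS : ∀ x ∈ V, ∀ t : k, t • x ∈ S := by
    intro x hx
    induction hx using Submodule.span_induction with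
    | mem x hx =>
      obtain ⟨c, hc, rfl⟩ := hx
      exact hsq c hc
    | zero => intro t; rw [smul_zero]; exact zero_mem _
    | add x y _ _ hx hy => intro t; rw [smul_add]; exact add_mem (hx t) (hy t)
    | smul r x _ hx => intro t; rw [smul_smul]; exact hx _
  have hV : V = ⊤ := by
    by_contra hV
    obtain ⟨ψ, hψ, hψV⟩ := Submodule.exists_dual_map_eq_bot_of_lt_top
      (lt_top_iff_ne_top.mpr hV) inferInstance
    rw [← LinearMap.le_ker_iff_map] at hψV
    let ψ' : K →ₗ[k] k := ψ.comp (LinearMap.mulLeft k (q0 ^ 2)⁻¹)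
    let Q : MvPolynomial (Fin (m + 1)) k :=
      ∑ s, ∑ t, MvPolynomial.X s * MvPolynomial.X t * MvPolynomial.C (ψ' (b s * b t))
    have hQ : ∀ c, MvPolynomial.eval c Q =
        ψ' (b.equivFun.symm c * b.equivFun.symm c) := by
      intro c
      simp only [Q, map_sum, map_mul, MvPolynomial.eval_X, MvPolynomial.eval_C,
        Module.Basis.equivFun_symm_apply, Finset.sum_mul, Finset.mul_sum, smul_mul_assoc,
        mul_smul_comm, map_smul, smul_eq_mul, Finset.smul_sum, mul_assoc]
      exact Finset.sum_congr rfl fun x _ => Finset.sum_congr rfl fun y _ => by rw [mul_comm (b x)]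
    have hQF : Q * F = 0 := by
      refine MvPolynomial.funext fun c => ?_
      rw [map_zero, map_mul]
      by_cases hc : MvPolynomial.eval c F = 0
      · rw [hc, mul_zero]
      · have := hψV (Submodule.subset_span ⟨c, hc, rfl⟩)
        rw [LinearMap.mem_ker] at this
        rw [hQ]
        simp only [ψ', LinearMap.comp_apply, LinearMap.mulLeft_apply]
        have he : (q0 ^ 2)⁻¹ * (b.equivFun.symm c * b.equivFun.symm c) =
          (b.equivFun.symm c / q0) ^ 2 := by field_simp
        rw [he, this, zero_mul]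
    have hQ0 : Q = 0 := (mul_eq_zero.mp hQF).resolve_right hF
    have hsq0 : ∀ x, ψ' (x * x) = 0 := fun x => by
      have := hQ (b.equivFun x)
      rw [hQ0, map_zero, LinearEquiv.symm_apply_apply] at this
      exact this.symm
    have h2k : (2 : k) ≠ 0 := fun h => h2 (by
      have := congrArg (algebraMap k K) h
      simpa [map_ofNat] using this)
    have hψ' : ∀ x, ψ' x = 0 := fun x => by
      have h := hsq0 (x + 1)
      rw [show (x + 1) * (x + 1) = x * x + (2 : k) • x + 1 * 1 by
        rw [two_smul]; ring, map_add, map_add, hsq0, hsq0, zero_add, add_zero, map_smul,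
        smul_eq_mul] at h
      exact (mul_eq_zero.mp h).resolve_left h2k
    apply hψ
    refine LinearMap.ext fun x => ?_
    have := hψ' (q0 ^ 2 * x)
    simpa [ψ', inv_mul_cancel_left₀ (pow_ne_zero 2 hq0)] using this
  refine eq_top_of_weyl (fun r => ?_) hg0 hg00
  have := hVS r (hV ▸ Submodule.mem_top) 1
  rwa [one_smul] at this

end Cfsg.Agent.RootSub.Dickson
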