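import Cfsg.Agent.RootSub.Dickson.FiniteField
import Cfsg.Agent.RootSub.Dickson.Generic

/-!
# Dickson's theorem and its rigidity over local algebras
-/

namespace Cfsg.Agent.RootSub.Dickson

open Matrix Polynomial
open scoped MatrixGroups

section Field

variable {k K : Type*} [Field k] [Field K] [Algebra k K]

theorem five_le_card [Finite k] (h2 : (2 : k) ≠ 0) (h3 : Nat.card k ≠ 3) : 5 ≤ Nat.card k := by
  have h1 : 1 < Nat.card k := Finite.one_lt_card
  by_contra hlt
  push Not at hlt
  have hzero : ((Nat.card k : ℕ) : k) = 0 := by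
    letI := Fintype.ofFinite k
    rw [Nat.card_eq_fintype_card]
    exact Nat.cast_card_eq_zero k
  interval_cases hc : Nat.card k
  · exact h2 (by exact_mod_cast hzero)
  · exact h3 rfl
  · exact h2 (mul_self_eq_zero.mp (by norm_num; exact_mod_cast hzero))

/-- **Dickson's theorem**: x(k) and y(kλ) generate SL₂(k[λ]). -/
theorem dicksonGroup_eq_top [FiniteDimensional k K] (h2 : (2 : k) ≠ 0) (h3 : Nat.card k ≠ 3)
    {lam : K} (hlam : lam ≠ 0) (hgen : Algebra.adjoin k ({lam} : Set K) = ⊤) :
    dicksonGroup k lam = ⊤ := by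
  have h2K : (2 : K) ≠ 0 := by
    rw [← map_ofNat (algebraMap k K) 2]; simpa using h2
  rcases finite_or_infinite k with hk | hk
  · exact dicksonGroup_eq_top_finite h2K (five_le_card h2 h3) hlam hgen
  · let pb : PowerBasis k K := (Algebra.adjoin.powerBasis (Algebra.IsIntegral.isIntegral lam)).map
      ((Subalgebra.equivOfEq _ _ hgen).trans Subalgebra.topEquiv)
    have hgen' : pb.gen = lam := rfl
    obtain ⟨m, hm⟩ : ∃ m, pb.dim = m + 1 := by
      refine Nat.exists_eq_succ_of_ne_zero fun h => ?_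
      have := Module.finrank_eq_card_basis pb.basis
      rw [Fintype.card_fin, h] at this
      exact (Module.finrank_pos (R := k) (M := K)).ne' this
    refine dicksonGroup_eq_top_infinite_basis (pb.basis.reindex (finCongr hm)) (fun i => ?_) h2K
      hlam
    simp [Module.Basis.reindex_apply, PowerBasis.basis_eq_pow, hgen']

end Field

section Rigidity

variable {k A : Type*} [Field k] [CommRing A] [Algebra k A]

theorem det_one_of_upper {N : SL(2, A)} (h : N 1 0 = 0) : N 0 0 * N 1 1 = 1 := by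
  have := det2 N
  rwa [h, mul_zero, sub_zero] at this

theorem smul_upR_mul {N M : SL(2, A)} {u w s t : A}
    (hN : (N : Matrix (Fin 2) (Fin 2) A) = u • !![1, s; 0, 1])
    (hM : (M : Matrix (Fin 2) (Fin 2) A) = w • !![1, t; 0, 1]) :
    ((N * M : SL(2, A)) : Matrix (Fin 2) (Fin 2) A) = (u * w) • !![1, s + t; 0, 1] := by
  rw [Matrix.SpecialLinearGroup.coe_mul, hN, hM]
  ext i j
  fin_cases i <;> fin_cases j <;> simp [Matrix.mul_apply, Fin.sum_univ_two] <;> ring

/-- If every element of the Dickson group over A = k[λ] whose lower corner lies in the maximal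
ideal has zero lower corner, then A is a field. -/
theorem isField_of_corner [FiniteDimensional k A] (h2 : (2 : k) ≠ 0) (h3 : Nat.card k ≠ 3)
    {lam : A} (hlam : IsUnit lam) (hgen : Algebra.adjoin k ({lam} : Set A) = ⊤)
    (p : Ideal A) [p.IsMaximal]
    (hyp : ∀ γ ∈ dicksonGroup k lam, γ 1 0 ∈ p → γ 1 0 = 0) : IsField A := by
  letI := Ideal.Quotient.field p
  haveI : Nontrivial A := (Ideal.Quotient.mk p).domain_nontrivial
  set π : A →ₐ[k] A ⧸ p := Ideal.Quotient.mkₐ k p with hπ
  set P := dicksonGroup k lam with hP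
  have hπsurj : Function.Surjective π := Ideal.Quotient.mkₐ_surjective k p
  haveI : FiniteDimensional k (A ⧸ p) := Module.Finite.of_surjective π.toLinearMap hπsurj
  have hlam' : π lam ≠ 0 := (hlam.map π).ne_zero
  have hgen' : Algebra.adjoin k ({π lam} : Set (A ⧸ p)) = ⊤ := by
    rw [← Set.image_singleton, ← AlgHom.map_adjoin, hgen, Algebra.map_top,
      AlgHom.range_eq_top]
    exact hπsurj
  have h2A : IsUnit (2 : A) := by
    rw [← map_ofNat (algebraMap k A) 2]
    exact (isUnit_iff_ne_zero.mpr h2).map _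
  have hsurj : ∀ g : SL(2, A ⧸ p), ∃ N ∈ P,
      Matrix.SpecialLinearGroup.map (π : A →+* A ⧸ p) N = g := by
    intro g
    have : g ∈ P.map (Matrix.SpecialLinearGroup.map (π : A →+* A ⧸ p)) := by
      rw [hP, map_dicksonGroup, dicksonGroup_eq_top h2 h3 hlam' hgen']
      exact Subgroup.mem_top g
    exact this
  have hmapapply : ∀ (N : SL(2, A)) (i j : Fin 2),
      Matrix.SpecialLinearGroup.map (π : A →+* A ⧸ p) N i j = π (N i j) := fun N i j => by
    simp [Matrix.SpecialLinearGroup.map_apply_coe, RingHom.mapMatrix_apply]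
  have hcorner : ∀ N ∈ P, π (N 1 0) = 0 → N 1 0 = 0 := fun N hN h =>
    hyp N hN (Ideal.Quotient.eq_zero_iff_mem.mp h)
  -- the kernel is scalar
  have hker : ∀ N ∈ P, π (N 1 0) = 0 → π (N 0 1) = 0 → π (N 0 0) = π (N 1 1) →
      N 0 1 = 0 ∧ N 0 0 = N 1 1 := by
    intro N hN h10 h01 hd
    have hN10 := hcorner N hN h10
    have hy : ∀ t : k, algebraMap k A t * lam *
        (N 0 0 - N 1 1 - algebraMap k A t * lam * N 0 1) = 0 := by
      intro t
      have hy := lowR_mem k lam t
      have hmem := mul_mem (mul_mem hy hN) (inv_mem hy)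
      have he : (lowR (algebraMap k A t * lam) * N * (lowR (algebraMap k A t * lam))⁻¹ : SL(2, A)) 1 0 =
          algebraMap k A t * lam * (N 0 0 - N 1 1 - algebraMap k A t * lam * N 0 1) := by
        simp [lowR_inv, coe_lowR, Matrix.mul_apply, Matrix.vecMul, dotProduct, Fin.sum_univ_two,
          hN10]
        ring
      rw [← he]
      refine hcorner _ hmem ?_
      rw [he]
      simp [h01, hd]
    have e1 := (hlam.mul_right_eq_zero).mp (by simpa using hy 1)
    have e2 := (hlam.mul_right_eq_zero).mp (by simpa using hy (-1))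
    have e3 : 2 * (lam * N 0 1) = 0 := by linear_combination e2 - e1
    have hN01 : N 0 1 = 0 := hlam.mul_right_eq_zero.mp (h2A.mul_right_eq_zero.mp e3)
    exact ⟨hN01, by linear_combination e1 + lam * hN01⟩
  -- lifts of translations
  let Lift : A ⧸ p → A → Prop := fun r s => ∃ N ∈ P, ∃ u : A, u * u = 1 ∧ π u = 1 ∧
    (N : Matrix (Fin 2) (Fin 2) A) = u • !![1, s; 0, 1] ∧ π s = r
  have huniq : ∀ r s s', Lift r s → Lift r s' → s = s' := by
    rintro r s s' ⟨N, hN, u, hu, hu', hNe, hs⟩ ⟨N', hN', w, hw, hw', hNe', hs'⟩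
    have hinv : ((N'⁻¹ : SL(2, A)) : Matrix (Fin 2) (Fin 2) A) = w • !![1, -s'; 0, 1] := by
      rw [Matrix.SpecialLinearGroup.coe_inv, hNe', Matrix.adjugate_fin_two]
      ext i j
      fin_cases i <;> fin_cases j <;> simp
    have hD := smul_upR_mul hNe hinv
    have h := hker (N * N'⁻¹) (mul_mem hN (inv_mem hN')) (by rw [hD]; simp)
      (by rw [hD]; simp [hs, hs']) (by rw [hD]; simp)
    have h01 := h.1
    rw [hD] at h01
    simp at h01
    have huw : IsUnit (u * w) := IsUnit.of_mul_eq_one (u * w) (by linear_combination w * w * hu + hw)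
    rw [← sub_eq_add_neg] at h01
    exact sub_eq_zero.mp (huw.mul_right_eq_zero.mp h01)
  have hconj : ∀ N ∈ P, N 1 0 = 0 → ∀ r s, Lift r s →
      Lift (π (N 0 0) ^ 2 * r) (N 0 0 ^ 2 * s) := by
    rintro N hN h10 r s ⟨M, hM, u, hu, hu', hMe, hs⟩
    refine ⟨N * M * N⁻¹, mul_mem (mul_mem hN hM) (inv_mem hN), u, hu, hu', ?_, ?_⟩
    · have hd := det_one_of_upper h10
      rw [Matrix.SpecialLinearGroup.coe_mul, Matrix.SpecialLinearGroup.coe_mul, hMe,
        Matrix.SpecialLinearGroup.coe_inv, Matrix.adjugate_fin_two]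
      ext i j
      fin_cases i <;> fin_cases j <;> simp [Matrix.mul_apply, Fin.sum_univ_two, h10]
      all_goals first
        | linear_combination u * hd
        | ring
    · rw [map_mul, map_pow, hs]
  have hliftk : ∀ t : k, Lift (algebraMap k (A ⧸ p) t) (algebraMap k A t) := fun t =>
    ⟨upR (algebraMap k A t), upR_mem k lam t, 1, by simp, by simp, by simp [coe_upR],
      π.commutes t⟩
  have hex : ∀ r, ∃ s, Lift r s := by
    intro r
    obtain ⟨N, hN, hNr⟩ := hsurj (upR r)
    have e : ∀ i j, π (N i j) = upR r i j := fun i j => by rw [← hmapapply, hNr]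
    have h10 : N 1 0 = 0 := hcorner N hN (by rw [e]; simp [coe_upR])
    have hd := det_one_of_upper h10
    -- N x(1) N⁻¹ and x(1) have the same image
    have hl := hconj N hN h10 1 1 (by simpa using hliftk 1)
    have hu2 : N 0 0 ^ 2 = 1 := by
      have := huniq _ _ _ hl (by
        have h1 : π (N 0 0) = 1 := by rw [e]; simp [coe_upR]
        simpa [h1] using hliftk 1)
      simpa using this
    refine ⟨N 0 0 * N 0 1, N, hN, N 0 0, by rw [← sq]; exact hu2,
      by rw [e]; simp [coe_upR], ?_, ?_⟩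
    · ext i j
      fin_cases i <;> fin_cases j <;> simp [h10]
      · linear_combination (-(N 0 1)) * hu2
      · linear_combination N 0 0 * hd - N 1 1 * hu2
    · rw [map_mul, e, e]; simp [coe_upR]
  choose σ hσ using hex
  have hσadd : ∀ r r', σ (r + r') = σ r + σ r' := by
    intro r r'
    refine huniq _ _ _ (hσ (r + r')) ?_
    obtain ⟨N, hN, u, hu, hu', hNe, hs⟩ := hσ r
    obtain ⟨M, hM, w, hw, hw', hMe, ht⟩ := hσ r'
    exact ⟨N * M, mul_mem hN hM, u * w, by linear_combination w * w * hu + hw,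
      by rw [map_mul, hu', hw', one_mul], smul_upR_mul hNe hMe, by rw [map_add, hs, ht]⟩
  have hσk : ∀ t : k, σ (algebraMap k (A ⧸ p) t) = algebraMap k A t := fun t =>
    huniq _ _ _ (hσ _) (hliftk t)
  have hσsq : ∀ c r : A ⧸ p, σ (c ^ 2 * r) = σ (c ^ 2) * σ r := by
    intro c r
    rcases eq_or_ne c 0 with rfl | hc
    · have h0 : σ 0 = 0 := by simpa using hσk 0
      simp [h0]
    obtain ⟨N, hN, hNd⟩ := hsurj ⟨!![c, 0; 0, c⁻¹], by simp [Matrix.det_fin_two, hc]⟩
    have e : ∀ i j, π (N i j) = (!![c, 0; 0, c⁻¹] : Matrix (Fin 2) (Fin 2) (A ⧸ p)) i j :=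
      fun i j => by rw [← hmapapply, hNd]
    have h10 : N 1 0 = 0 := hcorner N hN (by rw [e]; simp)
    have h00 : π (N 0 0) = c := by rw [e]; simp
    have a := huniq _ _ _ (hσ (c ^ 2 * r)) (h00 ▸ hconj N hN h10 r _ (hσ r))
    have b := huniq _ _ _ (hσ (c ^ 2)) (by
      simpa [h00] using hconj N hN h10 _ _ (hliftk 1))
    rw [a, b]
  have hσmul : ∀ x y, σ (x * y) = σ x * σ y := by
    intro x y
    have h2' : (2 : A ⧸ p) ≠ 0 := by
      rw [← map_ofNat π 2]; exact (h2A.map π).ne_zero
    obtain ⟨c, d, hx⟩ : ∃ c d : A ⧸ p, x + d ^ 2 = c ^ 2 :=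
      ⟨(x + 1) / 2, (x - 1) / 2, by field_simp; ring⟩
    have e1 : σ x + σ (d ^ 2) = σ (c ^ 2) := by rw [← hσadd, hx]
    have e2 : σ (x * y) + σ (d ^ 2 * y) = σ (c ^ 2 * y) := by rw [← hσadd, ← add_mul, hx]
    rw [hσsq, hσsq] at e2
    linear_combination e2 - σ y * e1
  let F : (A ⧸ p) →ₐ[k] A :=
    { toFun := σ
      map_one' := by simpa using hσk 1
      map_mul' := hσmul
      map_zero' := by simpa using hσk 0
      map_add' := hσadd
      commutes' := hσk }
  -- σ(1/λ̄) = 1/λ
  have hFlam : F (π lam)⁻¹ * lam = 1 := by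
    obtain ⟨N, hN, u, hu, hu', hNe, hs⟩ := hσ (π lam)⁻¹
    set l := σ (π lam)⁻¹ with hl
    set g : SL(2, A) := N * lowR (-lam) * N with hg
    have hgP : g ∈ P := mul_mem (mul_mem hN (by simpa using lowR_mem k lam (-1))) hN
    have hge : (g : Matrix (Fin 2) (Fin 2) A) =
        !![1 - l * lam, l * (2 - l * lam); -lam, 1 - l * lam] := by
      rw [hg, Matrix.SpecialLinearGroup.coe_mul, Matrix.SpecialLinearGroup.coe_mul, hNe]
      ext i j
      fin_cases i <;> fin_cases j <;>
        simp [coe_lowR, Matrix.mul_apply, Fin.sum_univ_two]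
      · linear_combination (1 - l * lam) * hu
      · linear_combination (l * (2 - l * lam)) * hu
      · linear_combination lam * hu
      · linear_combination (1 - l * lam) * hu
    have hsq : (g * g : SL(2, A)) 1 0 = -2 * lam * (1 - l * lam) := by
      rw [Matrix.SpecialLinearGroup.coe_mul, hge]
      simp [Matrix.mul_apply, Fin.sum_univ_two]
      ring
    have h0 := hcorner _ (mul_mem hgP hgP) (by
      rw [hsq, map_mul, map_sub, map_one, map_mul π l, hs, inv_mul_cancel₀ hlam', sub_self,
        mul_zero])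
    rw [hsq] at h0
    have := (h2A.neg.mul hlam).mul_right_eq_zero.mp h0
    show l * lam = 1
    linear_combination -this
  have hFgen : F (π lam) = lam := by
    have h1 : F (π lam) * F (π lam)⁻¹ = 1 := by
      rw [← map_mul, mul_inv_cancel₀ hlam', map_one]
    calc F (π lam) = F (π lam) * (F (π lam)⁻¹ * lam) := by rw [hFlam, mul_one]
      _ = lam := by rw [← mul_assoc, h1, one_mul]
  have hFsurj : Function.Surjective F := by
    rw [← AlgHom.range_eq_top, eq_top_iff, ← hgen]
    exact Algebra.adjoin_le (Set.singleton_subset_iff.mpr ⟨π lam, hFgen⟩)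
  exact (RingEquiv.ofBijective F ⟨F.toRingHom.injective, hFsurj⟩).toMulEquiv.symm.isField
    (Field.toIsField (A ⧸ p))

end Rigidity

end Cfsg.Agent.RootSub.Dickson
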