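import Cfsg.Agent.RootSub.Dickson.Main

/-!
# Rigidity from a normal subgroup: local algebras
-/

namespace Cfsg.Agent.RootSub.Dickson

open Matrix
open scoped MatrixGroups

theorem exists_sq_ne_one {k : Type*} [Field k] (h3 : Nat.card k ≠ 3) (h2 : (2 : k) ≠ 0) :
    ∃ c : k, c ≠ 0 ∧ c ^ 2 ≠ 1 := by
  classical
  by_contra hcon
  push Not at hcon
  apply h3
  have : (Set.univ : Set k) = {0, 1, -1} := by
    refine (Set.eq_univ_of_forall fun c => ?_).symm
    rcases eq_or_ne c 0 with rfl | hc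
    · simp
    · rcases sq_eq_one_iff.mp (hcon c hc) with h | h <;> simp [h]
  rw [← Set.ncard_univ, this]
  have h11 : (1 : k) ≠ -1 := fun h => h2 (by linear_combination h)
  rw [Set.ncard_insert_of_notMem (by simp) (Set.toFinite _), Set.ncard_pair h11]

variable {k A : Type*} [Field k] [CommRing A] [Algebra k A]

/-- In a local algebra, rigidity needs only the elements of a normal subgroup Q mapping onto
SL₂ of the residue field that are congruent to 1. -/
theorem isField_of_normal [FiniteDimensional k A] (h2 : (2 : k) ≠ 0) (h3 : Nat.card k ≠ 3)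
    {lam : A} (hlam : IsUnit lam) (hgen : Algebra.adjoin k ({lam} : Set A) = ⊤)
    (p : Ideal A) [p.IsMaximal] (hp : ∀ x ∈ p, IsNilpotent x) (Q : Subgroup SL(2, A))
    (hQ : Q ≤ dicksonGroup k lam)
    (hQn : ∀ g ∈ dicksonGroup k lam, ∀ q ∈ Q, g * q * g⁻¹ ∈ Q)
    (hQs : ∀ g : SL(2, A ⧸ p), ∃ q ∈ Q, Matrix.SpecialLinearGroup.map (Ideal.Quotient.mk p) q = g)
    (hyp : ∀ q ∈ Q, Matrix.SpecialLinearGroup.map (Ideal.Quotient.mk p) q = 1 → q 1 0 = 0) :
    IsField A := by
  letI := Ideal.Quotient.field p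
  haveI : Nontrivial A := (Ideal.Quotient.mk p).domain_nontrivial
  set P := dicksonGroup k lam with hP
  set π := Ideal.Quotient.mk p with hπ
  have hunit : ∀ x : A, π x ≠ 0 → IsUnit x := by
    intro x hx
    obtain ⟨y, hy⟩ := Ideal.Quotient.mk_surjective ((π x)⁻¹)
    have : x * y - 1 ∈ p := by
      rw [← Ideal.Quotient.eq_zero_iff_mem, map_sub, map_mul, hy, map_one, ← hπ,
        mul_inv_cancel₀ hx, sub_self]
    have h1 : IsUnit (x * y) := by
      have := (hp _ this).isUnit_add_one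
      rwa [sub_add_cancel] at this
    exact isUnit_of_mul_isUnit_left h1
  have h2A : IsUnit (2 : A) := by
    rw [← map_ofNat (algebraMap k A) 2]
    exact (isUnit_iff_ne_zero.mpr h2).map _
  have h2Q : (2 : A ⧸ p) ≠ 0 := by
    rw [← map_ofNat π 2]; exact (h2A.map π).ne_zero
  have hmap : ∀ (N : SL(2, A)) (i j : Fin 2),
      Matrix.SpecialLinearGroup.map π N i j = π (N i j) := fun N i j => by
    simp [Matrix.SpecialLinearGroup.map_apply_coe, RingHom.mapMatrix_apply]
  -- elements of Q congruent to 1 are scalar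
  have hkQ : ∀ q ∈ Q, Matrix.SpecialLinearGroup.map π q = 1 →
      q 1 0 = 0 ∧ q 0 1 = 0 ∧ q 0 0 = q 1 1 := by
    intro q hq hq1
    have h10 := hyp q hq hq1
    have hy : ∀ t : k, algebraMap k A t * lam *
        (q 0 0 - q 1 1 - algebraMap k A t * lam * q 0 1) = 0 := by
      intro t
      have he : (lowR (algebraMap k A t * lam) * q * (lowR (algebraMap k A t * lam))⁻¹ : SL(2, A))
          1 0 = algebraMap k A t * lam * (q 0 0 - q 1 1 - algebraMap k A t * lam * q 0 1) := by
        simp [lowR_inv, coe_lowR, Matrix.mul_apply, Matrix.vecMul, dotProduct, Fin.sum_univ_two,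
          h10]
        ring
      rw [← he]
      refine hyp _ (hQn _ (lowR_mem k lam t) q hq) ?_
      rw [map_mul, map_mul, hq1, mul_one, map_inv, mul_inv_cancel]
    have e1 := (hlam.mul_right_eq_zero).mp (by simpa using hy 1)
    have e2 := (hlam.mul_right_eq_zero).mp (by simpa using hy (-1))
    have e3 : 2 * (lam * q 0 1) = 0 := by linear_combination e2 - e1
    have h01 : q 0 1 = 0 := hlam.mul_right_eq_zero.mp (h2A.mul_right_eq_zero.mp e3)
    exact ⟨h10, h01, by linear_combination e1 + lam * h01⟩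
  -- elements of P congruent to 1 are scalar
  have hkP : ∀ γ ∈ P, Matrix.SpecialLinearGroup.map π γ = 1 →
      γ 1 0 = 0 ∧ γ 0 1 = 0 ∧ γ 0 0 = γ 1 1 := by
    intro γ hγ hγ1
    have hcomm : ∀ q ∈ Q, q * γ = γ * q := by
      intro q hq
      have hmem : q * γ * q⁻¹ * γ⁻¹ ∈ Q := by
        rw [mul_assoc, mul_assoc, ← mul_assoc γ]
        exact mul_mem hq (hQn γ hγ _ (inv_mem hq))
      have him : Matrix.SpecialLinearGroup.map π (q * γ * q⁻¹ * γ⁻¹) = 1 := by
        simp [hγ1]
      obtain ⟨a10, a01, ad⟩ := hkQ _ hmem him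
      set e : SL(2, A) := q * γ * q⁻¹ * γ⁻¹ with he
      have hee : e 0 0 * e 0 0 = 1 := by
        have := det2 e
        rw [a10, a01, ← ad] at this
        linear_combination this
      have hπe : π (e 0 0) = 1 := by rw [← hmap, him]; rfl
      have hu : IsUnit (e 0 0 + 1) := hunit _ (by
        rw [map_add, hπe, map_one, one_add_one_eq_two]; exact h2Q)
      have he1 : e 0 0 = 1 :=
        sub_eq_zero.mp (hu.mul_right_eq_zero.mp (by linear_combination hee))
      have hone : e = 1 := ext_entries (by simpa using he1) (by simpa using a01)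
        (by simpa using a10) (by simpa [← ad] using he1)
      have := congrArg (· * γ * q) hone
      simpa [he, mul_assoc] using this
    obtain ⟨c, hc0, hc⟩ := exists_sq_ne_one h3 h2
    set c' : A ⧸ p := algebraMap k (A ⧸ p) c
    have hc' : c' ≠ 0 := by simpa [c'] using hc0
    obtain ⟨H, hH, hHd⟩ := hQs ⟨!![c', 0; 0, c'⁻¹], by simp [Matrix.det_fin_two, hc']⟩
    obtain ⟨W, hW, hWd⟩ := hQs ⟨!![0, 1; -1, 0], by simp [Matrix.det_fin_two]⟩
    have eH : ∀ i j, π (H i j) = (!![c', 0; 0, c'⁻¹] : Matrix (Fin 2) (Fin 2) (A ⧸ p)) i j :=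
      fun i j => by rw [← hmap, hHd]
    have eW : ∀ i j, π (W i j) = (!![0, 1; -1, 0] : Matrix (Fin 2) (Fin 2) (A ⧸ p)) i j :=
      fun i j => by rw [← hmap, hWd]
    have hHu : IsUnit (H 0 0 - H 1 1) := hunit _ (by
      rw [map_sub, eH, eH]
      simp only [Matrix.of_apply, Matrix.cons_val_zero, Matrix.cons_val_one]
      intro h
      apply hc
      apply (algebraMap k (A ⧸ p)).injective
      have h' : c' * c' = 1 := by
        rw [sub_eq_zero] at h
        nth_rewrite 2 [h]
        exact mul_inv_cancel₀ hc'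
      rw [map_pow, map_one, sq]
      exact h')
    have hWu : IsUnit (W 0 1) := hunit _ (by rw [eW]; simp)
    have hHq : (H * γ : SL(2, A)) = γ * H := hcomm H hH
    have hWq : (W * γ : SL(2, A)) = γ * W := hcomm W hW
    have H10' := congrArg (fun g : SL(2, A) => g 1 0) hHq
    have H01' := congrArg (fun g : SL(2, A) => g 0 1) hHq
    have W01' := congrArg (fun g : SL(2, A) => g 0 1) hWq
    simp only [Matrix.SpecialLinearGroup.coe_mul, Matrix.mul_apply, Fin.sum_univ_two] at H10' H01' W01'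
    obtain ⟨u, hu⟩ := isUnit_iff_exists_inv.mp hHu
    obtain ⟨w, hw⟩ := isUnit_iff_exists_inv.mp hWu
    have hδ : γ 0 0 - γ 1 1 = γ 0 1 * (W 0 0 - W 1 1) * w := by
      linear_combination (-(γ 0 0 - γ 1 1)) * hw - w * W01'
    have hb : γ 0 1 = H 0 1 * (γ 0 0 - γ 1 1) * u := by
      linear_combination (-(γ 0 1)) * hu + u * H01'
    have hfix : (γ 0 0 - γ 1 1) * (1 - H 0 1 * u * (W 0 0 - W 1 1) * w) = 0 := by
      linear_combination hδ + (W 0 0 - W 1 1) * w * hb
    have hone : IsUnit (1 - H 0 1 * u * (W 0 0 - W 1 1) * w) := hunit _ (by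
      rw [map_sub, map_mul, map_mul, map_mul, map_sub, eH]
      simp)
    have hd : γ 0 0 - γ 1 1 = 0 := hone.mul_left_eq_zero.mp hfix
    have h01 : γ 0 1 = 0 := by linear_combination hb + H 0 1 * u * hd
    have h10 : γ 1 0 = 0 := by
      linear_combination (-(γ 1 0)) * hu - u * H10' + H 1 0 * u * hd
    exact ⟨h10, h01, sub_eq_zero.mp hd⟩
  -- the corner hypothesis
  refine isField_of_corner h2 h3 hlam hgen p fun γ hγ hγp => ?_
  have hcornerA : ∀ γ ∈ P, π (γ 1 0) = 0 → π (γ 0 0) ^ 2 = 1 → γ 1 0 = 0 := by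
    intro γ hγ h10 h00
    have hu : IsUnit (γ 0 0) := hunit _ (fun h => by simp [h] at h00)
    have hx : upR (1 : A) ∈ P := by simpa using upR_mem k lam 1
    set N : SL(2, A) := γ * upR 1 * γ⁻¹ * upR (-1) with hN
    have hNP : N ∈ P := by
      refine mul_mem (mul_mem (mul_mem hγ hx) (inv_mem hγ)) ?_
      rw [← upR_inv]; exact inv_mem hx
    have hNe : (N : Matrix (Fin 2) (Fin 2) A) = !![1 - γ 0 0 * γ 1 0, γ 0 0 ^ 2 - 1 + γ 0 0 * γ 1 0;
        -(γ 1 0) ^ 2, 1 + γ 0 0 * γ 1 0 + γ 1 0 ^ 2] := by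
      have hd := det2 γ
      simp only [hN, Matrix.SpecialLinearGroup.coe_mul, Matrix.SpecialLinearGroup.coe_inv,
        Matrix.adjugate_fin_two, coe_upR]
      ext i j
      fin_cases i <;> fin_cases j <;> simp [Matrix.mul_apply, Fin.sum_univ_two]
      · linear_combination hd
      · linear_combination -hd
      · ring
      · linear_combination hd
    have hN1 : Matrix.SpecialLinearGroup.map π N = 1 := by
      apply ext_entries <;> simp only [hmap] <;> rw [hNe] <;>
        simp [h10, h00]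
    obtain ⟨a10, -, ad⟩ := hkP N hNP hN1
    rw [hNe] at a10 ad
    simp at a10 ad
    have : γ 0 0 * (2 * γ 1 0) = 0 := by linear_combination -ad - a10
    exact h2A.mul_right_eq_zero.mp (hu.mul_right_eq_zero.mp this)
  have hπ10 : π (γ 1 0) = 0 := Ideal.Quotient.eq_zero_iff_mem.mpr hγp
  have hu : IsUnit (γ 0 0) := hunit _ (fun h => by
    have := congrArg π (det2 γ)
    simp [h, hπ10] at this)
  set N : SL(2, A) := γ * upR 1 * γ⁻¹ with hN
  have hx : upR (1 : A) ∈ P := by simpa using upR_mem k lam 1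
  have hNP : N ∈ P := mul_mem (mul_mem hγ hx) (inv_mem hγ)
  have hd := det2 γ
  have hN00 : N 0 0 = 1 - γ 0 0 * γ 1 0 := by
    simp [hN, coe_upR, Matrix.SpecialLinearGroup.coe_inv, Matrix.adjugate_fin_two,
      Matrix.mul_apply, Fin.sum_univ_two]
    linear_combination hd
  have hN11 : N 1 1 = 1 + γ 0 0 * γ 1 0 := by
    simp [hN, coe_upR, Matrix.SpecialLinearGroup.coe_inv, Matrix.adjugate_fin_two,
      Matrix.mul_apply, Fin.sum_univ_two]
    linear_combination hd
  have hN10 : N 1 0 = -(γ 1 0) ^ 2 := by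
    simp [hN, coe_upR, Matrix.SpecialLinearGroup.coe_inv, Matrix.adjugate_fin_two,
      Matrix.mul_apply, Fin.sum_univ_two]
    ring
  have hN10z : N 1 0 = 0 := hcornerA N hNP (by rw [hN10]; simp [hπ10])
    (by rw [hN00]; simp [hπ10])
  have hdN := det_one_of_upper hN10z
  set M : SL(2, A) := N * upR 1 * N⁻¹ * upR (-1) with hM
  have hMP : M ∈ P := by
    refine mul_mem (mul_mem (mul_mem hNP hx) (inv_mem hNP)) ?_
    rw [← upR_inv]; exact inv_mem hx
  have hMe : (M : Matrix (Fin 2) (Fin 2) A) = !![1, N 0 0 ^ 2 - 1; 0, 1] := by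
    simp only [hM, Matrix.SpecialLinearGroup.coe_mul, Matrix.SpecialLinearGroup.coe_inv,
      Matrix.adjugate_fin_two, coe_upR]
    ext i j
    fin_cases i <;> fin_cases j <;> simp [Matrix.mul_apply, Fin.sum_univ_two, hN10z]
    · linear_combination hdN
    · linear_combination -hdN
    · linear_combination hdN
  have hπN : π (N 0 0) = 1 := by rw [hN00]; simp [hπ10]
  obtain ⟨-, a01, -⟩ := hkP M hMP (by
    apply ext_entries <;> simp only [hmap] <;> rw [hMe] <;> simp [hπN])
  rw [hMe] at a01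
  simp at a01
  have hu' : IsUnit (N 0 0 + 1) := hunit _ (by
    rw [map_add, hπN, map_one, one_add_one_eq_two]; exact h2Q)
  have h1 : N 0 0 - 1 = 0 := hu'.mul_right_eq_zero.mp (by linear_combination a01)
  rw [hN00] at h1
  exact hu.mul_right_eq_zero.mp (by linear_combination -h1)

end Cfsg.Agent.RootSub.Dickson
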