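import Mathlib

/-!
# The group generated by x(k) and y(k λ) in SL₂(A), and word matrices over k[X]
-/

namespace Cfsg.Agent.RootSub.Dickson

open Matrix Polynomial
open scoped MatrixGroups

variable {A : Type*} [CommRing A]

/-- The upper transvection over a commutative ring. -/
def upR (t : A) : SL(2, A) := ⟨!![1, t; 0, 1], by simp [Matrix.det_fin_two]⟩

/-- The lower transvection over a commutative ring. -/
def lowR (t : A) : SL(2, A) := ⟨!![1, 0; t, 1], by simp [Matrix.det_fin_two]⟩

theorem coe_upR (t : A) : ((upR t : SL(2, A)) : Matrix (Fin 2) (Fin 2) A) = !![1, t; 0, 1] := rfl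

theorem coe_lowR (t : A) : ((lowR t : SL(2, A)) : Matrix (Fin 2) (Fin 2) A) = !![1, 0; t, 1] := rfl

theorem upR_add (s t : A) : upR (s + t) = upR s * upR t := by
  apply Subtype.ext
  ext i j
  fin_cases i <;> fin_cases j <;>
    simp [coe_upR, Matrix.SpecialLinearGroup.coe_mul, Matrix.mul_apply, Fin.sum_univ_two, add_comm]

theorem lowR_add (s t : A) : lowR (s + t) = lowR s * lowR t := by
  apply Subtype.ext
  ext i j
  fin_cases i <;> fin_cases j <;>
    simp [coe_lowR, Matrix.SpecialLinearGroup.coe_mul, Matrix.mul_apply, Fin.sum_univ_two]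

theorem upR_zero : upR (0 : A) = 1 := by
  apply Subtype.ext
  ext i j
  fin_cases i <;> fin_cases j <;> simp [coe_upR]

theorem lowR_zero : lowR (0 : A) = 1 := by
  apply Subtype.ext
  ext i j
  fin_cases i <;> fin_cases j <;> simp [coe_lowR]

theorem upR_inv (t : A) : (upR t)⁻¹ = upR (-t) :=
  inv_eq_of_mul_eq_one_right (by rw [← upR_add, add_neg_cancel, upR_zero])

theorem lowR_inv (t : A) : (lowR t)⁻¹ = lowR (-t) :=
  inv_eq_of_mul_eq_one_right (by rw [← lowR_add, add_neg_cancel, lowR_zero])

theorem map_upR {B : Type*} [CommRing B] (f : A →+* B) (t : A) :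
    Matrix.SpecialLinearGroup.map f (upR t) = upR (f t) := by
  apply Subtype.ext
  ext i j
  fin_cases i <;> fin_cases j <;>
    simp [coe_upR, Matrix.SpecialLinearGroup.map_apply_coe, RingHom.mapMatrix_apply]

theorem map_lowR {B : Type*} [CommRing B] (f : A →+* B) (t : A) :
    Matrix.SpecialLinearGroup.map f (lowR t) = lowR (f t) := by
  apply Subtype.ext
  ext i j
  fin_cases i <;> fin_cases j <;>
    simp [coe_lowR, Matrix.SpecialLinearGroup.map_apply_coe, RingHom.mapMatrix_apply]

variable (k : Type*) [Field k] [Algebra k A]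

/-- The group generated by x(k) and y(k λ). -/
def dicksonGroup (lam : A) : Subgroup SL(2, A) :=
  Subgroup.closure (Set.range (fun t : k => upR (algebraMap k A t)) ∪
    Set.range (fun t : k => lowR (algebraMap k A t * lam)))

theorem upR_mem (lam : A) (t : k) : upR (algebraMap k A t) ∈ dicksonGroup k lam :=
  Subgroup.subset_closure (Or.inl ⟨t, rfl⟩)

theorem lowR_mem (lam : A) (t : k) : lowR (algebraMap k A t * lam) ∈ dicksonGroup k lam :=
  Subgroup.subset_closure (Or.inr ⟨t, rfl⟩)

/-- Images of Dickson groups under algebra maps. -/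
theorem map_dicksonGroup {B : Type*} [CommRing B] [Algebra k B] (f : A →ₐ[k] B) (lam : A) :
    (dicksonGroup k lam).map (Matrix.SpecialLinearGroup.map (f : A →+* B)) =
      dicksonGroup k (f lam) := by
  rw [dicksonGroup, dicksonGroup, MonoidHom.map_closure, Set.image_union, ← Set.range_comp,
    ← Set.range_comp]
  congr 2
  · congr 1
    funext t
    simp [Function.comp, map_upR]
  · congr 1
    funext t
    simp [Function.comp, map_lowR]

/-- The group of word matrices over k[X]. -/
noncomputable abbrev wordGroup : Subgroup SL(2, k[X]) := dicksonGroup k (X : k[X])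

/-- Every element of a Dickson group comes from a word matrix. -/
theorem exists_word {lam : A} {g : SL(2, A)} (hg : g ∈ dicksonGroup k lam) :
    ∃ M ∈ wordGroup k,
      Matrix.SpecialLinearGroup.map ((aeval lam : k[X] →ₐ[k] A) : k[X] →+* A) M = g := by
  have h : g ∈ (wordGroup k).map
      (Matrix.SpecialLinearGroup.map ((aeval lam : k[X] →ₐ[k] A) : k[X] →+* A)) := by
    rw [wordGroup, map_dicksonGroup, aeval_X]; exact hg
  obtain ⟨M, hM, he⟩ := h
  exact ⟨M, hM, he⟩

end Cfsg.Agent.RootSub.Dickson
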