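import Cfsg.Agent.RootSub.Dickson.Fix

/-!
# The counting argument for subgroups of SL₂ over a finite field containing many translations

If P is a subgroup of SL₂(K), K finite of odd characteristic, whose translations form a group S
with at least five elements and which moves ∞, then the images of ∞ other than ∞ form one coset
of S.
-/

namespace Cfsg.Agent.RootSub.Dickson

open Matrix OnePoint MulAction
open scoped Pointwise
open scoped MatrixGroups

section Arith

theorem orbit_count_one {N s c : ℕ} (hN : 2 ≤ N) (hc : 1 ≤ c)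
    (h : 1 * (N * s * c) + 2 + N * s = N + 2 * (N * s * c) + N) : False := by
  have : N * s ≤ N * s * c := Nat.le_mul_of_pos_right _ hc
  omega

theorem orbit_count_ge_three {N s c Y R : ℕ} (hs : 2 ≤ s) (hR : 3 ≤ R)
    (h : R * (N * s * c) + 2 + N * s = Y + 2 * (N * s * c) + N)
    (hY : 2 * Y + N * s * c ≤ 2 * N + R * (N * s * c)) : False := by
  have h1 : 3 * (N * s * c) ≤ R * (N * s * c) := Nat.mul_le_mul_right _ hR
  have h2 : N * 2 ≤ N * s := Nat.mul_le_mul_left N hs
  omega

theorem orbit_count_two {N s c o c1 m : ℕ} (hs : 3 ≤ s) (hm : N = 1 + m * s) (hm0 : 1 ≤ m)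
    (hc0 : 1 ≤ c) (hc : c + 1 ≤ s) (h : 2 * (N * s * c) + 2 + N * s = (N + o) + 2 * (N * s * c) + N)
    (ho : o * c1 = N * s * c) : m = 1 ∨ (s = 3 ∧ m ≤ 3) := by
  obtain ⟨t, rfl⟩ : ∃ t, s = t + 2 := ⟨s - 2, by omega⟩
  have ho' : o = 2 + N * t := by nlinarith
  by_cases ht1 : t = 1
  · subst ht1
    right
    refine ⟨rfl, ?_⟩
    have hc5 : c1 ≤ 5 := by
      by_contra hlt
      have h1 : o * 6 ≤ o * c1 := Nat.mul_le_mul_left _ (by omega)
      have h2 : N * 3 * c ≤ N * 3 * 2 := Nat.mul_le_mul_left _ (by omega)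
      rw [ho, ho'] at h1
      nlinarith
    have hdvd : N ∣ 2 * c1 := by
      have h1 : N ∣ N * 1 * c1 + 2 * c1 := ⟨3 * c, by rw [← mul_assoc, ← ho, ho']; ring⟩
      exact (Nat.dvd_add_right (Dvd.intro (1 * c1) (by ring))).mp h1
    have hc1pos : 0 < c1 := by
      rcases Nat.eq_zero_or_pos c1 with h0 | h0
      · rw [h0, mul_zero] at ho
        have hpos : 0 < N * (1 + 2) * c := Nat.mul_pos (Nat.mul_pos (by omega) (by omega)) hc0
        omega
      · exact h0
    have := Nat.le_of_dvd (by omega) hdvd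
    omega
  left
  have hc1le : c1 ≤ t + 3 := by
    by_contra hlt
    push Not at hlt
    have h1 : o * (t + 4) ≤ o * c1 := Nat.mul_le_mul_left _ hlt
    have h2 : N * (t + 2) * c ≤ N * (t + 2) * (t + 1) :=
      Nat.mul_le_mul_left _ (by omega)
    rw [ho, ho'] at h1
    have ht2 : N * 2 ≤ N * t := Nat.mul_le_mul_left _ (by omega)
    nlinarith
  have hdvd : N ∣ 2 * c1 := by
    have h1 : N ∣ N * t * c1 + 2 * c1 := ⟨(t + 2) * c, by rw [← mul_assoc, ← ho, ho']; ring⟩
    exact (Nat.dvd_add_right (Dvd.intro (t * c1) (by ring))).mp h1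
  have hc1pos : 0 < c1 := by
    rcases Nat.eq_zero_or_pos c1 with h0 | h0
    · exfalso
      rw [h0, mul_zero] at ho
      have hN : N ≠ 0 := by omega
      rcases mul_eq_zero.mp ho.symm with h' | h'
      · rcases mul_eq_zero.mp h' with h'' | h'' <;> omega
      · omega
    · exact h0
  obtain ⟨q, hq⟩ := hdvd
  by_contra hne
  have hm2 : 2 ≤ m := by omega
  have hq1 : q = 1 := by
    rcases Nat.lt_or_ge q 2 with h' | h'
    · rcases Nat.eq_zero_or_pos q with h'' | h''
      · subst h''; omega
      · omega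
    · exfalso
      have : N * 2 ≤ N * q := Nat.mul_le_mul_left _ h'
      have h3 : 2 * (t + 2) ≤ m * (t + 2) := Nat.mul_le_mul_right _ hm2
      omega
  subst hq1
  rcases Nat.lt_or_ge m 3 with h' | h'
  · obtain rfl : m = 2 := by omega
    omega
  · have h3 : 3 * (t + 2) ≤ m * (t + 2) := Nat.mul_le_mul_right _ h'
    omega

end Arith

variable {K : Type*} [Field K]

theorem trace_conj (h g : SL(2, K)) :
    (h * g * h⁻¹) 0 0 + (h * g * h⁻¹) 1 1 = g 0 0 + g 1 1 := by
  have hd := det_eq_one h
  simp only [Matrix.SpecialLinearGroup.coe_mul, Matrix.SpecialLinearGroup.coe_inv,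
    Matrix.adjugate_fin_two, Matrix.mul_apply, Fin.sum_univ_two, Matrix.of_apply,
    Matrix.cons_val_zero, Matrix.cons_val_one]
  linear_combination (g 0 0 + g 1 1) * hd

theorem isPM_conj {g : SL(2, K)} (h : SL(2, K)) : IsPM (h * g * h⁻¹) ↔ IsPM g := by
  simp only [isPM_iff, conj_eq_one_iff]
  constructor <;> rintro (h' | h')
  · exact Or.inl h'
  · right
    have := congrArg (fun x => h⁻¹ * x * h) h'
    simpa [mul_assoc] using this
  · exact Or.inl h'
  · right; subst h'; simp

theorem pow_of_trace_two {p : ℕ} [CharP K p] {g : SL(2, K)} (h : g 0 0 + g 1 1 = 2) :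
    g ^ p = 1 := by
  have hd := det_eq_one g
  have hsq : ((g : Matrix (Fin 2) (Fin 2) K) - 1) * ((g : Matrix (Fin 2) (Fin 2) K) - 1) = 0 := by
    ext i j
    fin_cases i <;> fin_cases j <;>
      simp only [Fin.zero_eta, Fin.mk_one, Matrix.mul_apply, Fin.sum_univ_two, Matrix.sub_apply,
        Matrix.one_apply_eq, Matrix.one_apply_ne, Matrix.zero_apply, ne_eq, zero_ne_one,
        one_ne_zero, not_false_eq_true, sub_zero]
    · linear_combination g 0 0 * h - hd
    · linear_combination g 0 1 * h
    · linear_combination g 1 0 * h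
    · linear_combination g 1 1 * h - hd
  have key : ∀ n : ℕ, ((g : Matrix (Fin 2) (Fin 2) K)) ^ n =
      1 + n • ((g : Matrix (Fin 2) (Fin 2) K) - 1) := by
    intro n
    induction n with
    | zero => simp
    | succ n ih =>
      rw [pow_succ', ih, mul_add, mul_one, mul_smul_comm]
      rw [show (g : Matrix (Fin 2) (Fin 2) K) * ((g : Matrix (Fin 2) (Fin 2) K) - 1) =
        ((g : Matrix (Fin 2) (Fin 2) K) - 1) * ((g : Matrix (Fin 2) (Fin 2) K) - 1) +
          ((g : Matrix (Fin 2) (Fin 2) K) - 1) by noncomm_ring, hsq, zero_add, succ_nsmul]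
      abel
  apply Subtype.ext
  rw [Matrix.SpecialLinearGroup.coe_pow, key, Matrix.SpecialLinearGroup.coe_one]
  ext i j
  simp [Matrix.add_apply, Matrix.smul_apply, CharP.cast_eq_zero]

theorem trace_sq (g : SL(2, K)) :
    (g * g) 0 0 + (g * g) 1 1 = (g 0 0 + g 1 1) ^ 2 - 2 := by
  have hd := det_eq_one g
  simp only [Matrix.SpecialLinearGroup.coe_mul, Matrix.mul_apply, Fin.sum_univ_two]
  linear_combination (-2 : K) * hd

theorem isPM_of_sq_eq_one (h2 : (2 : K) ≠ 0) {g : SL(2, K)} (h : g * g = 1) : IsPM g := by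
  have hg : g⁻¹ = g := inv_eq_of_mul_eq_one_left h
  have e : ((g⁻¹ : SL(2, K)) : Matrix (Fin 2) (Fin 2) K) = g := by rw [hg]
  rw [Matrix.SpecialLinearGroup.coe_inv, Matrix.adjugate_fin_two] at e
  have e01 := congrFun (congrFun e 0) 1
  have e10 := congrFun (congrFun e 1) 0
  have e00 := congrFun (congrFun e 0) 0
  simp at e01 e10 e00
  refine ⟨?_, ?_, e00.symm⟩
  · exact (mul_eq_zero.mp (show (2 : K) * g 1 0 = 0 by linear_combination -e10)).resolve_left h2
  · exact (mul_eq_zero.mp (show (2 : K) * g 0 1 = 0 by linear_combination -e01)).resolve_left h2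

section Action

variable (L : Type*) [Field L] [Algebra K L] [DecidableEq L]

/-- The action on the projective line over the extension. -/
@[reducible] noncomputable def lineAction (P : Subgroup SL(2, K)) : MulAction P (OnePoint L) :=
  MulAction.compHom _ ((toGLExt (K := K) (L := L)).comp P.subtype)

theorem smul_infty [DecidableEq K] (g : SL(2, K)) :
    (toGLExt g : GL (Fin 2) L) • (∞ : OnePoint L) =
      if g 1 0 = 0 then ∞ else ((algebraMap K L (g 0 0 / g 1 0) : L) : OnePoint L) := by
  rw [smul_infty_eq_ite]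
  simp only [toGLExt_apply, map_eq_zero, map_div₀]

theorem upR_smul (r : K) (z : L) :
    (toGLExt (upR r) : GL (Fin 2) L) • (z : OnePoint L) =
      ((z + algebraMap K L r : L) : OnePoint L) := by
  simp [smul_some_eq_ite, toGLExt_apply, coe_upR]

theorem fixSet_upR {r : K} (hr : r ≠ 0) : fixSet L (upR r) = {∞} := by
  ext x
  cases x with
  | infty => simpa [fixSet] using (fix_infty (upR r)).mpr (by simp [coe_upR])
  | coe z => simp [fixSet, upR_smul, map_eq_zero, hr]

end Action

section Counting

variable [Finite K]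

/-- The translations and images of ∞ of a subgroup. -/
def orbitPts (P : Subgroup SL(2, K)) : Set K :=
  {z | ∃ g ∈ P, g 1 0 ≠ 0 ∧ g 0 0 / g 1 0 = z}

theorem translate_mem_orbitPts {P : Subgroup SL(2, K)} {r z : K} (hr : upR r ∈ P)
    (hz : z ∈ orbitPts P) : z + r ∈ orbitPts P := by
  obtain ⟨g, hg, hg0, rfl⟩ := hz
  refine ⟨upR r * g, mul_mem hr hg, ?_, ?_⟩
  · simpa [coe_upR, Matrix.mul_apply, Fin.sum_univ_two] using hg0
  · simp [coe_upR, Matrix.mul_apply, Fin.sum_univ_two, add_div, mul_div_assoc, div_self hg0]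

theorem dvd_ncard_of_translate (S : AddSubgroup K) (Z : Set K)
    (h : ∀ z ∈ Z, ∀ r ∈ S, z + r ∈ Z) : Nat.card S ∣ Z.ncard := by
  refine ⟨(((↑) : K → K ⧸ S) '' Z).ncard, ?_⟩
  have hpre : ((↑) : K → K ⧸ S) ⁻¹' (((↑) : K → K ⧸ S) '' Z) = Z := by
    refine Set.Subset.antisymm ?_ (Set.subset_preimage_image _ _)
    rintro x ⟨z, hz, hzx⟩
    have := h z hz _ (QuotientAddGroup.eq.mp hzx)
    simpa using this
  conv_lhs => rw [← hpre]
  rw [← Nat.card_coe_set_eq, ← Nat.card_coe_set_eq,
    Nat.card_congr (QuotientAddGroup.preimageMkEquivAddSubgroupProdSet S _), Nat.card_prod]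

set_option maxHeartbeats 1000000 in
-- a long counting argument
theorem card_translations_cases (h2 : (2 : K) ≠ 0) (P : Subgroup SL(2, K)) (S : AddSubgroup K)
    (hS : ∀ r, r ∈ S ↔ upR r ∈ P) (hs : 3 ≤ Nat.card S) (hne : (orbitPts P).Nonempty) :
    (orbitPts P).ncard = Nat.card S ∨ (Nat.card S = 3 ∧ (orbitPts P).ncard ≤ 9) := by
  classical
  let L := AlgebraicClosure K
  letI act : MulAction P (OnePoint L) := lineAction L P
  have hact : ∀ (g : P) (x : OnePoint L), g • x = (toGLExt (g : SL(2, K)) : GL (Fin 2) L) • x :=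
    fun _ _ => rfl
  obtain ⟨p, hp⟩ := CharP.exists K
  haveI hpp : Fact p.Prime := ⟨CharP.char_is_prime K p⟩
  have hp2 : p ≠ 2 := by
    rintro rfl
    exact h2 (by exact_mod_cast CharP.cast_eq_zero K 2)
  haveI : Finite SL(2, K) := inferInstance
  -- a non-zero translation
  obtain ⟨r0, hr0S, hr0⟩ : ∃ r0 ∈ S, r0 ≠ 0 := by
    by_contra hcon
    push Not at hcon
    have : S = ⊥ := eq_bot_iff.mpr fun x hx => AddSubgroup.mem_bot.mpr (hcon x hx)
    rw [this] at hs
    simp at hs
  -- the finite invariant set of points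
  let T : Set (OnePoint L) := orbit P (∞ : OnePoint L) ∪
    ⋃ g ∈ {g : P | ¬ IsPM (g : SL(2, K))}, fixSet L (g : SL(2, K))
  have hTinv : ∀ (g : P) {x : OnePoint L}, x ∈ T → g • x ∈ T := by
    intro g x hx
    rcases hx with hx | hx
    · left
      obtain ⟨h, rfl⟩ := hx
      exact ⟨g * h, by simp [mul_smul]⟩
    · right
      simp only [Set.mem_iUnion, Set.mem_ofPred_eq] at hx ⊢
      obtain ⟨h, hh, hx⟩ := hx
      refine ⟨g * h * g⁻¹, ?_, ?_⟩
      · rwa [Subgroup.coe_mul, Subgroup.coe_mul, Subgroup.coe_inv, isPM_conj]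
      · show (g * h * g⁻¹) • (g • x) = g • x
        rw [mul_smul, mul_smul, inv_smul_smul]
        exact congrArg (g • ·) hx
  let Y : SubMulAction P (OnePoint L) := ⟨T, fun g _ hx => hTinv g hx⟩
  have hTfin : T.Finite := (Set.finite_range _).union
    (Set.Finite.biUnion (Set.toFinite _) fun g hg => finite_fixSet h2 hg)
  haveI : Finite Y := hTfin.to_subtype
  let y0 : Y := ⟨∞, Or.inl (MulAction.mem_orbit_self _)⟩
  -- the centre, the stabiliser of ∞ and the translations
  let Z : Subgroup P := (Subgroup.center SL(2, K)).subgroupOf P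
  have hZmem : ∀ g : P, g ∈ Z ↔ IsPM (g : SL(2, K)) := by
    intro g
    rw [Subgroup.mem_subgroupOf, Matrix.SpecialLinearGroup.mem_center_iff]
    constructor
    · rintro ⟨r, -, hr⟩
      refine ⟨?_, ?_, ?_⟩ <;> rw [← hr] <;> simp
    · rintro ⟨h10, h01, hd⟩
      refine ⟨(g : SL(2, K)) 0 0, ?_, ?_⟩
      · have := det_eq_one (g : SL(2, K))
        rw [h10, h01, ← hd] at this
        simpa [sq] using this
      · ext i j
        fin_cases i <;> fin_cases j <;> simp [h10, h01, ← hd]
  have hZfix : ∀ g ∈ Z, ∀ x : OnePoint L, g • x = x := by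
    intro g hg x
    obtain ⟨h10, h01, hd⟩ := (hZmem g).mp hg
    cases x with
    | infty => rw [hact, fix_infty]; exact h10
    | coe z => rw [hact, fix_some, h10, h01, hd]; simp
  let St : Subgroup P := stabilizer P (∞ : OnePoint L)
  have hSt : ∀ g : P, g ∈ St ↔ (g : SL(2, K)) 1 0 = 0 := fun g => by
    rw [MulAction.mem_stabilizer_iff, hact, fix_infty]
  have hdiag : ∀ g : St, ((g : P) : SL(2, K)) 0 0 * ((g : P) : SL(2, K)) 1 1 = 1 := fun g => by
    have := det_eq_one ((g : P) : SL(2, K))
    rw [(hSt _).mp g.2, mul_zero, sub_zero] at this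
    exact this
  let ψ : St →* Kˣ := MonoidHom.toHomUnits
    { toFun := fun g => ((g : P) : SL(2, K)) 0 0 ^ 2
      map_one' := by simp
      map_mul' := fun g h => by
        have := (hSt _).mp h.2
        simp only [Subgroup.coe_mul, Matrix.SpecialLinearGroup.coe_mul, Matrix.mul_apply,
          Fin.sum_univ_two, this, mul_zero, add_zero, mul_pow] }
  let W : Subgroup St := ψ.ker
  have hW : ∀ g : St, g ∈ W ↔ ((g : P) : SL(2, K)) 0 0 ^ 2 = 1 := fun g => by
    rw [MonoidHom.mem_ker, Units.ext_iff]
    rfl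
  let U : Subgroup P :=
    { carrier := {g | (g : SL(2, K)) 1 0 = 0 ∧ (g : SL(2, K)) 0 0 = 1}
      one_mem' := by simp
      mul_mem' := by
        rintro a b ⟨ha, ha'⟩ ⟨hb, hb'⟩
        constructor <;> simp [Matrix.mul_apply, Fin.sum_univ_two, ha, ha', hb, hb']
      inv_mem' := by
        rintro a ⟨ha, ha'⟩
        have := det_eq_one (a : SL(2, K))
        rw [ha, ha', mul_zero, sub_zero, one_mul] at this
        constructor <;>
          simp [Matrix.SpecialLinearGroup.coe_inv, Matrix.adjugate_fin_two, ha, this] }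
  have hUeq : ∀ g : P, g ∈ U → (g : SL(2, K)) = upR ((g : SL(2, K)) 0 1) := by
    rintro g ⟨hg, hg'⟩
    have h11 := det_eq_one (g : SL(2, K))
    rw [hg, hg', mul_zero, sub_zero, one_mul] at h11
    apply Subtype.ext
    ext i j
    fin_cases i <;> fin_cases j <;> simp [coe_upR, hg, hg', h11]
  have hUcard : Nat.card U = Nat.card S := by
    refine (Nat.card_congr (Equiv.ofBijective
      (fun r : S => (⟨⟨upR r.1, (hS _).mp r.2⟩, by simp [U, coe_upR], by simp [coe_upR]⟩ : U))
      ⟨fun a b hab => ?_, fun g => ?_⟩)).symm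
    · have := congrArg (fun g : U => ((g : P) : SL(2, K)) 0 1) hab
      exact Subtype.ext (by simpa [coe_upR] using this)
    · refine ⟨⟨((g : P) : SL(2, K)) 0 1, (hS _).mpr ?_⟩, ?_⟩
      · rw [← hUeq _ g.2]; exact (g : P).2
      · exact Subtype.ext (Subtype.ext (hUeq _ g.2).symm)
  set s := Nat.card S with hsdef
  set e := Nat.card Z with hedef
  have hedvd : e ∣ 2 := by
    have h1 : e ∣ Nat.card (Subgroup.center SL(2, K)) := by
      rw [hedef]
      exact Subgroup.card_dvd_of_injective
        (f := (P.subtype.comp Z.subtype).codRestrict _ fun z => z.2)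
        (fun a b hab => Subtype.ext (Subtype.ext (congrArg (fun x : Subgroup.center SL(2, K) => (x : SL(2, K))) hab)))
    refine h1.trans ?_
    have hc2 : Nat.card (Subgroup.center SL(2, K)) = 2 := by
      rw [Nat.card_congr (Matrix.SpecialLinearGroup.center_equiv_rootsOfUnity).toEquiv]
      simp only [Fintype.card_fin]
      rw [show max 2 1 = 2 from rfl]
      exact Nat.card_eq_two_iff.mpr ⟨1, ⟨-1, by simp [mem_rootsOfUnity]⟩, by
        intro h
        have := congrArg (fun u : rootsOfUnity 2 K => ((u : Kˣ) : K)) h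
        simp at this
        exact h2 (by linear_combination this), by
        ext u
        simp only [Set.mem_insert_iff, Set.mem_singleton_iff, Set.mem_univ, iff_true]
        have hu := (mem_rootsOfUnity' _ _).mp u.2
        rcases sq_eq_one_iff.mp hu with h | h
        · exact Or.inl (Subtype.ext (Units.ext (by simpa using h)))
        · exact Or.inr (Subtype.ext (Units.ext (by simpa using h)))⟩
    rw [hc2]
  have he0 : 0 < e := Nat.card_pos
  -- |W| = e s
  have hWcard : Nat.card W = e * s := by
    rw [hedef, ← hUcard, ← Nat.card_prod]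
    have hmem : ∀ zu : Z × U, (zu.1 : P) * (zu.2 : P) ∈ St := fun zu => by
      refine mul_mem (hZfix _ zu.1.2 _) ?_
      exact (hSt _).mpr zu.2.2.1
    refine (Nat.card_congr (Equiv.ofBijective
      (fun zu : Z × U => (⟨⟨_, hmem zu⟩, ?_⟩ : W)) ⟨?_, ?_⟩)).symm
    · rw [hW]
      obtain ⟨h10, h01, hd⟩ := (hZmem _).mp zu.1.2
      have := det_eq_one ((zu.1 : P) : SL(2, K))
      rw [h10, h01, ← hd, mul_zero, sub_zero] at this
      simp [Matrix.mul_apply, Fin.sum_univ_two, h01, zu.2.2.2, sq, this]
    · rintro ⟨z, u⟩ ⟨z', u'⟩ h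
      have h' : (z : P) * (u : P) = (z' : P) * (u' : P) :=
        congrArg (fun w : W => ((w : St) : P)) h
      have h00 := congrArg (fun g : P => (g : SL(2, K)) 0 0) h'
      obtain ⟨h10, h01, hd⟩ := (hZmem _).mp z.2
      obtain ⟨h10', h01', hd'⟩ := (hZmem _).mp z'.2
      simp [Matrix.mul_apply, Fin.sum_univ_two, h01, h01', u.2.2, u'.2.2] at h00
      have hz : z = z' := by
        apply Subtype.ext
        apply Subtype.ext
        apply Subtype.ext
        ext i j
        fin_cases i <;> fin_cases j <;> simp [h10, h10', h01, h01', ← hd, ← hd', h00]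
      subst hz
      exact Prod.ext rfl (Subtype.ext (mul_left_cancel h'))
    · intro w
      have h10 := (hSt _).mp (w : St).2
      have hsq := (hW _).mp w.2
      have hd := hdiag (w : St)
      rcases sq_eq_one_iff.mp hsq with h | h
      · exact ⟨(1, ⟨((w : St) : P), h10, h⟩), Subtype.ext (Subtype.ext (one_mul _))⟩
      · set g : P := ((w : St) : P) with hg
        have h11 : (g : SL(2, K)) 1 1 = -1 := by
          rw [h] at hd; linear_combination -hd
        have hneg : (g : SL(2, K)) = -upR (-(g : SL(2, K)) 0 1) := by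
          apply Subtype.ext
          ext i j
          fin_cases i <;> fin_cases j <;> simp [coe_upR, h10, h, h11]
        have hgg : upR (-(g : SL(2, K)) 0 1 + -(g : SL(2, K)) 0 1) ∈ P := by
          have := mul_mem g.2 g.2
          rw [hneg, neg_mul_neg] at this
          rwa [upR_add]
        have hhalf : upR (-(g : SL(2, K)) 0 1) ∈ P := by
          rw [← hS] at hgg ⊢
          obtain ⟨q, hq⟩ : Odd p := hpp.out.odd_of_ne_two hp2
          have := S.nsmul_mem hgg (q + 1)
          convert this using 1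
          rw [← two_nsmul, ← mul_nsmul']
          rw [show (q + 1) * 2 = p + 1 by omega, add_nsmul, one_nsmul, nsmul_eq_mul,
            CharP.cast_eq_zero, zero_mul, zero_add]
        have hm1 : (-1 : SL(2, K)) ∈ P := by
          have h' := mul_mem g.2 (inv_mem hhalf)
          rwa [show (g : SL(2, K)) * (upR (-(g : SL(2, K)) 0 1))⁻¹ = -1 by
            nth_rewrite 1 [hneg]; simp] at h'
        refine ⟨(⟨⟨-1, hm1⟩, (hZmem _).mpr (isPM_iff.mpr (Or.inr rfl))⟩,
          ⟨⟨upR (-(g : SL(2, K)) 0 1), hhalf⟩, by simp [U, coe_upR], by simp [coe_upR]⟩), ?_⟩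
        apply Subtype.ext
        apply Subtype.ext
        apply Subtype.ext
        show (-1 : SL(2, K)) * upR (-(g : SL(2, K)) 0 1) = (g : SL(2, K))
        rw [neg_one_mul, ← hneg]
  -- |Stab| = e s c
  set c := Nat.card ψ.range with hcdef
  have hc0 : 1 ≤ c := Nat.card_pos
  have hStcard : Nat.card St = e * s * c := by
    rw [← W.card_mul_index, hWcard, Subgroup.index_ker]
  have hcs : c + 1 ≤ s := by
    have hmul : ∀ v : ψ.range, ((v : Kˣ) : K) * r0 ∈ S := by
      rintro ⟨_, g, rfl⟩
      rw [hS]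
      have h10 := (hSt _).mp g.2
      have hg := hdiag g
      have hconj : ((g : P) : SL(2, K)) * upR r0 =
          upR (((g : P) : SL(2, K)) 0 0 ^ 2 * r0) * ((g : P) : SL(2, K)) := by
        apply Subtype.ext
        ext i j
        fin_cases i <;> fin_cases j <;>
          simp [coe_upR, Matrix.mul_apply, Fin.sum_univ_two, h10]
        linear_combination (-(((g : P) : SL(2, K)) 0 0) * r0) * hg
      have := mul_mem (mul_mem (g : P).2 ((hS _).mp hr0S)) (inv_mem (g : P).2)
      rw [hconj, mul_inv_cancel_right] at this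
      exact this
    let f : Option ψ.range → S := fun v => v.elim 0 fun v => ⟨_, hmul v⟩
    have hf : Function.Injective f := by
      rintro (_ | a) (_ | b) h
      · rfl
      · exact absurd (congrArg Subtype.val h).symm (mul_ne_zero (Units.ne_zero _) hr0)
      · exact absurd (congrArg Subtype.val h) (mul_ne_zero (Units.ne_zero _) hr0)
      · exact congrArg Option.some (Subtype.ext (Units.ext (mul_right_cancel₀ hr0
          (congrArg Subtype.val h))))
    have := Nat.card_le_card_of_injective f hf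
    rwa [Finite.card_option] at this
  -- the orbit of ∞
  let N := (orbitPts P).ncard + 1
  have horb : orbit P (∞ : OnePoint L) =
      insert ∞ ((fun z : K => ((algebraMap K L z : L) : OnePoint L)) '' orbitPts P) := by
    ext x
    constructor
    · rintro ⟨g, rfl⟩
      show g • (∞ : OnePoint L) ∈ _
      rw [hact, smul_infty]
      by_cases h : (g : SL(2, K)) 1 0 = 0
      · rw [if_pos h]; exact Set.mem_insert _ _
      · rw [if_neg h]; exact Set.mem_insert_of_mem _ ⟨_, ⟨g, g.2, h, rfl⟩, rfl⟩
    · rintro (rfl | ⟨z, ⟨g, hg, hg0, rfl⟩, rfl⟩)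
      · exact MulAction.mem_orbit_self _
      · refine ⟨⟨g, hg⟩, ?_⟩
        show (⟨g, hg⟩ : P) • (∞ : OnePoint L) = _
        rw [hact, smul_infty, if_neg hg0]
  have hN : (orbit P (∞ : OnePoint L)).ncard = N := by
    rw [horb, Set.ncard_insert_of_notMem (by simp) ((Set.toFinite _).image _),
      Set.ncard_image_of_injective]
    intro a b h
    exact (algebraMap K L).injective (OnePoint.coe_injective h)
  obtain ⟨m, hm⟩ := dvd_ncard_of_translate S (orbitPts P)
    (fun z hz r hr => translate_mem_orbitPts ((hS r).mp hr) hz)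
  have hm0 : 1 ≤ m := by
    have : 0 < (orbitPts P).ncard := (Set.ncard_pos (Set.toFinite _)).mpr hne
    rw [hm] at this
    exact Nat.pos_of_ne_zero fun h => by simp [h] at this
  have hPcard : Nat.card P = e * (N * s * c) := by
    rw [← St.card_mul_index, hStcard, index_stabilizer, hN]; ring
  -- U is a Sylow subgroup
  have hUp : IsPGroup p U := by
    intro u
    refine ⟨1, Subtype.ext (Subtype.ext ?_)⟩
    simp only [pow_one, Subgroup.coe_pow, Subgroup.coe_one]
    rw [hUeq _ u.2]
    exact pow_of_trace_two (by simp [coe_upR]; norm_num)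
  have hps : p ∣ s := by
    obtain ⟨n, hn⟩ := IsPGroup.iff_card.mp hUp
    rw [hUcard] at hn
    rcases n with _ | n
    · simp at hn; omega
    · exact hn ▸ dvd_pow_self p (Nat.succ_ne_zero n)
  have hUindex : ¬ p ∣ U.index := by
    intro hdiv
    have hUi : U.index = e * N * c := by
      have h' := U.card_mul_index
      rw [hUcard, hPcard] at h'
      exact Nat.eq_of_mul_eq_mul_left (by omega) (h'.trans (by ring))
    rw [hUi] at hdiv
    rcases (Nat.Prime.dvd_mul hpp.out).mp hdiv with h | h
    rcases (Nat.Prime.dvd_mul hpp.out).mp h with h | h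
    · exact hp2 ((Nat.prime_dvd_prime_iff_eq hpp.out Nat.prime_two).mp (h.trans hedvd))
    · have : p ∣ (orbitPts P).ncard := hm ▸ dvd_mul_of_dvd_left hps m
      exact hpp.out.not_dvd_one ((Nat.dvd_add_right this).mp h)
    · have h1 : c ∣ Nat.card Kˣ := Subgroup.card_subgroup_dvd_card _
      obtain ⟨n, hn⟩ := (IsPGroup.iff_card (p := p) (G := Multiplicative K)).mp fun x => by
        refine ⟨1, ?_⟩
        rw [pow_one]
        apply Multiplicative.toAdd.injective
        rw [toAdd_pow, nsmul_eq_mul, CharP.cast_eq_zero, zero_mul, toAdd_one]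
      rw [Nat.card_congr Multiplicative.toAdd] at hn
      rw [Nat.card_units, hn] at h1
      have hn0 : n ≠ 0 := by
        rintro rfl
        have := Finite.one_lt_card (α := K)
        rw [pow_zero] at hn
        omega
      have h3 : p ∣ p ^ n - 1 := h.trans h1
      have h4 : p ∣ p ^ n := dvd_pow_self p hn0
      have h5 : 1 ≤ p ^ n := Nat.one_le_pow _ _ hpp.out.pos
      exact hpp.out.not_dvd_one ((Nat.dvd_add_right h3).mp (by rwa [Nat.sub_add_cancel h5]))
  -- the elements of trace ±2
  have hfix : ∀ g : P, ¬ IsPM (g : SL(2, K)) → ((g : SL(2, K)) 0 0 + (g : SL(2, K)) 1 1) ^ 2 = 4 →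
      ∃ h : P, g • (h • (∞ : OnePoint L)) = h • (∞ : OnePoint L) := by
    intro g hg htr
    set w : P := g * g with hw
    have htrw : (w : SL(2, K)) 0 0 + (w : SL(2, K)) 1 1 = 2 := by
      rw [hw, Subgroup.coe_mul, trace_sq, htr]; norm_num
    have hwne : (w : SL(2, K)) ≠ 1 := fun h => hg (isPM_of_sq_eq_one h2 (by simpa [hw] using h))
    have hwPM : ¬ IsPM (w : SL(2, K)) := by
      rintro ⟨h10, h01, hd⟩
      apply hwne
      rw [← hd] at htrw
      have h00 : (w : SL(2, K)) 0 0 = 1 :=
        mul_left_cancel₀ h2 (by linear_combination htrw)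
      apply Subtype.ext
      ext i j
      fin_cases i <;> fin_cases j <;> simp [h10, h01, ← hd, h00]
    have hwp : w ^ p = 1 := Subtype.ext (by
      rw [Subgroup.coe_pow, pow_of_trace_two htrw]; rfl)
    obtain ⟨Q, hQ⟩ := (show IsPGroup p (Subgroup.zpowers w) by
      rintro ⟨x, hx⟩
      obtain ⟨n, rfl⟩ := hx
      refine ⟨1, Subtype.ext ?_⟩
      show (w ^ n) ^ (p ^ 1) = 1
      rw [pow_one, ← zpow_natCast (w ^ n), ← _root_.zpow_mul, mul_comm, _root_.zpow_mul, zpow_natCast, hwp,
        _root_.one_zpow]).exists_le_sylow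
    obtain ⟨h, hh⟩ := MulAction.exists_smul_eq P (hUp.toSylow hUindex) Q
    have hwQ : w ∈ Q := hQ (Subgroup.mem_zpowers w)
    rw [← hh] at hwQ
    have hwU : h⁻¹ * w * h ∈ U := by
      have hwQ' : w ∈ (MulAut.conj h • (U : Subgroup P) : Subgroup P) := by
        exact hwQ
      rw [Subgroup.mem_pointwise_smul_iff_inv_smul_mem] at hwQ'
      simpa [MulAut.smul_def, MulAut.conj_symm_apply] using hwQ'
    refine ⟨h, ?_⟩
    have hwfix : w • (h • (∞ : OnePoint L)) = h • (∞ : OnePoint L) := by
      have h1 : (h⁻¹ * w * h) • (∞ : OnePoint L) = ∞ := by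
        rw [hact, fix_infty]; exact hwU.1
      rw [mul_smul, mul_smul, inv_smul_eq_iff] at h1
      exact h1
    obtain ⟨x, hx⟩ := (fixSet_card (L := L) h2 hwPM).1 (by rw [htrw]; norm_num)
    have e1 : h • (∞ : OnePoint L) ∈ fixSet L (w : SL(2, K)) := hwfix
    have e2 : g • (h • (∞ : OnePoint L)) ∈ fixSet L (w : SL(2, K)) := by
      show w • (g • (h • (∞ : OnePoint L))) = _
      rw [← mul_smul w g, hw, mul_assoc, mul_smul g, ← hw, hwfix]
    rw [hx, Set.mem_singleton_iff] at e1 e2
    rw [e2, ← e1]
  -- Burnside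
  letI : Fintype P := Fintype.ofFinite _
  letI : Fintype Y := Fintype.ofFinite _
  set R := Nat.card (Quotient (orbitRel P Y)) with hRdef
  have hburn : ∑ g : P, Nat.card (fixedBy Y g) = R * Nat.card P := by
    letI : ∀ g : P, Fintype (fixedBy Y g) := fun g => Fintype.ofFinite _
    letI : Fintype (Quotient (orbitRel P Y)) := Fintype.ofFinite _
    have := sum_card_fixedBy_eq_card_orbits_mul_card_group P Y
    simp only [hRdef, Nat.card_eq_fintype_card]
    exact this
  have hfixcard : ∀ g : P, ¬ IsPM (g : SL(2, K)) →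
      Nat.card (fixedBy Y g) +
        (if ((g : SL(2, K)) 0 0 + (g : SL(2, K)) 1 1) ^ 2 = 4 then 1 else 0) = 2 := by
    intro g hg
    have himg : Subtype.val '' (fixedBy Y g) = fixSet L (g : SL(2, K)) := by
      ext x
      constructor
      · rintro ⟨y, hy, rfl⟩
        exact congrArg Subtype.val hy
      · intro hx
        refine ⟨⟨x, Or.inr ?_⟩, Subtype.ext hx, rfl⟩
        simp only [Set.mem_iUnion, Set.mem_ofPred_eq]
        exact ⟨g, hg, hx⟩
    rw [Nat.card_coe_set_eq, ← Set.ncard_image_of_injective _ Subtype.val_injective, himg]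
    obtain ⟨h1, h1'⟩ := fixSet_card (L := L) h2 hg
    split_ifs with h
    · obtain ⟨x, hx⟩ := h1 h
      rw [hx, Set.ncard_singleton]
    · obtain ⟨x, y, hxy, hx⟩ := h1' h
      rw [hx, Set.ncard_pair hxy]
  let PM : Finset P := Finset.univ.filter fun g => IsPM (g : SL(2, K))
  let NP : Finset P := Finset.univ.filter fun g => ¬ IsPM (g : SL(2, K))
  let TR : Finset P := NP.filter fun g => ((g : SL(2, K)) 0 0 + (g : SL(2, K)) 1 1) ^ 2 = 4
  have hPMcard : PM.card = e := by
    rw [hedef, Nat.card_eq_fintype_card, Fintype.card_subtype]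
    congr 1
    ext g
    simp [PM, hZmem]
  have hTR : TR.card + N * e = N * (e * s) := by
    let O : Finset (OnePoint L) :=
      (((Set.toFinite (orbitPts P)).image fun z : K => ((algebraMap K L z : L) : OnePoint L)).insert
        ∞).toFinset
    have hO : ∀ x, x ∈ O ↔ x ∈ orbit P (∞ : OnePoint L) := fun x => by
      rw [horb, Set.Finite.mem_toFinset]
    have hOcard : O.card = N := by
      rw [← hN, ← Set.ncard_coe_finset]
      congr 1
      ext x
      exact hO x
    let f : OnePoint L → Finset P := fun x => TR.filter fun g => g • x = x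
    have huniq : ∀ g ∈ TR, ∀ x y : OnePoint L, g • x = x → g • y = y → x = y := by
      intro g hg x y hx hy
      simp only [TR, NP, Finset.mem_filter, Finset.mem_univ, true_and] at hg
      obtain ⟨z, hz⟩ := (fixSet_card (L := L) h2 hg.1).1 hg.2
      have e1 : x ∈ fixSet L (g : SL(2, K)) := hx
      have e2 : y ∈ fixSet L (g : SL(2, K)) := hy
      rw [hz, Set.mem_singleton_iff] at e1 e2
      rw [e1, e2]
    have hcover : TR = O.biUnion f := by
      ext g
      simp only [f, Finset.mem_biUnion, Finset.mem_filter]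
      refine ⟨fun hg => ?_, fun ⟨_, _, hg, _⟩ => hg⟩
      have hg' := hg
      simp only [TR, NP, Finset.mem_filter, Finset.mem_univ, true_and] at hg'
      obtain ⟨h, hh⟩ := hfix g hg'.1 hg'.2
      exact ⟨_, (hO _).mpr ⟨h, rfl⟩, hg, hh⟩
    have hdisj : (O : Set (OnePoint L)).PairwiseDisjoint f := by
      intro x _ y _ hxy
      rw [Function.onFun, Finset.disjoint_left]
      intro g hg hg'
      simp only [f, Finset.mem_filter] at hg hg'
      exact hxy (huniq g hg.1 x y hg.2 hg'.2)
    have hbase : (f ∞).card + e = e * s := by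
      let Wf : Finset P := Finset.univ.filter fun g => g ∈ W.map St.subtype
      have hWf : Wf.card = e * s := by
        rw [← hWcard, ← Subgroup.card_map_of_injective (f := St.subtype) St.subtype_injective,
          Nat.card_eq_fintype_card, Fintype.card_subtype]
      have hsplit : f ∞ = Wf \ PM := by
        ext g
        simp only [f, TR, NP, Wf, PM, Finset.mem_filter, Finset.mem_univ, true_and,
          Finset.mem_sdiff, Subgroup.mem_map, hW]
        constructor
        · rintro ⟨⟨hg, htr⟩, hfix'⟩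
          refine ⟨⟨⟨g, hfix'⟩, ?_, rfl⟩, hg⟩
          have hd : (g : SL(2, K)) 0 0 * (g : SL(2, K)) 1 1 = 1 := hdiag ⟨g, hfix'⟩
          have h0 : ((g : SL(2, K)) 0 0 ^ 2 - 1) ^ 2 = 0 := by
            linear_combination (g : SL(2, K)) 0 0 ^ 2 * htr -
              ((g : SL(2, K)) 0 0 * (g : SL(2, K)) 1 1 + 1 + 2 * (g : SL(2, K)) 0 0 ^ 2) * hd
          have h0' := (pow_eq_zero_iff (n := 2) (by norm_num)).mp h0
          show (g : SL(2, K)) 0 0 ^ 2 = 1
          linear_combination h0'
        · rintro ⟨⟨w, hw, rfl⟩, hg⟩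
          refine ⟨⟨hg, ?_⟩, w.2⟩
          have hd := hdiag w
          show (((w : P) : SL(2, K)) 0 0 + ((w : P) : SL(2, K)) 1 1) ^ 2 = 4
          linear_combination
            (1 - ((w : P) : SL(2, K)) 1 1 ^ 2) * hw +
              (((w : P) : SL(2, K)) 0 0 * ((w : P) : SL(2, K)) 1 1 + 3) * hd
      have hsub : PM ⊆ Wf := by
        intro g hg
        simp only [PM, Finset.mem_filter, Finset.mem_univ, true_and] at hg
        simp only [Wf, Finset.mem_filter, Finset.mem_univ, true_and, Subgroup.mem_map, hW]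
        refine ⟨⟨g, hZfix g ((hZmem g).mpr hg) _⟩, ?_, rfl⟩
        have := det_eq_one (g : SL(2, K))
        show (g : SL(2, K)) 0 0 ^ 2 = 1
        rw [hg.1, hg.2.1, ← hg.2.2] at this
        linear_combination this
      rw [hsplit, Finset.card_sdiff_of_subset hsub, hWf, hPMcard,
        Nat.sub_add_cancel (Nat.le_mul_of_pos_right e (by omega))]
    have hconst : ∀ x ∈ O, (f x).card = (f ∞).card := by
      intro x hx
      obtain ⟨h, rfl⟩ := (hO x).mp hx
      refine Finset.card_bij' (fun g _ => h⁻¹ * g * h) (fun g _ => h * g * h⁻¹) ?_ ?_ ?_ ?_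
      · intro g hg
        simp only [f, TR, NP, Finset.mem_filter, Finset.mem_univ, true_and] at hg ⊢
        refine ⟨⟨?_, ?_⟩, ?_⟩
        · have := isPM_conj (g := (g : SL(2, K))) ((h⁻¹ : P) : SL(2, K))
          simp only [Subgroup.coe_inv, inv_inv] at this
          simpa [this] using hg.1.1
        · have := trace_conj ((h⁻¹ : P) : SL(2, K)) (g : SL(2, K))
          simp only [Subgroup.coe_inv, inv_inv] at this
          simp only [Subgroup.coe_mul, Subgroup.coe_inv]
          rw [this]; exact hg.1.2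
        · rw [mul_smul, mul_smul, inv_smul_eq_iff]; exact hg.2
      · intro g hg
        simp only [f, TR, NP, Finset.mem_filter, Finset.mem_univ, true_and] at hg ⊢
        refine ⟨⟨?_, ?_⟩, ?_⟩
        · simpa [isPM_conj] using hg.1.1
        · simp only [Subgroup.coe_mul, Subgroup.coe_inv]
          rw [trace_conj]; exact hg.1.2
        · show (h * g * h⁻¹) • (h • (∞ : OnePoint L)) = h • (∞ : OnePoint L)
          rw [mul_smul, mul_smul, inv_smul_smul, hg.2]
      · intro g _; group
      · intro g _; group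
    rw [hcover, Finset.card_biUnion hdisj, Finset.sum_congr rfl hconst, Finset.sum_const, hOcard,
      smul_eq_mul, ← Nat.mul_add, hbase]
  have hmain : R * (N * s * c) + 2 + N * s = Nat.card Y + 2 * (N * s * c) + N := by
    have hsum : ∑ g : P, Nat.card (fixedBy Y g) + TR.card =
        e * Nat.card Y + 2 * NP.card := by
      rw [← Finset.sum_filter_add_sum_filter_not Finset.univ (fun g : P => IsPM (g : SL(2, K))),
        add_assoc]
      congr 1
      · rw [Finset.sum_congr rfl (fun g hg => ?_), Finset.sum_const, smul_eq_mul]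
        · show PM.card * _ = _
          rw [hPMcard]
        · simp only [Finset.mem_filter, Finset.mem_univ, true_and] at hg
          have : fixedBy Y g = Set.univ :=
            Set.eq_univ_of_forall fun y => Subtype.ext (hZfix g ((hZmem g).mpr hg) _)
          rw [this, Nat.card_coe_set_eq, Set.ncard_univ]
      · show ∑ g ∈ NP, _ + TR.card = _
        rw [show TR.card = ∑ g ∈ NP,
          (if ((g : SL(2, K)) 0 0 + (g : SL(2, K)) 1 1) ^ 2 = 4 then 1 else 0) by
            rw [Finset.sum_boole]; simp [TR], ← Finset.sum_add_distrib,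
          Finset.sum_congr rfl (fun g hg => hfixcard g (Finset.mem_filter.mp hg).2),
          Finset.sum_const, smul_eq_mul, mul_comm]
    have hNP : PM.card + NP.card = Nat.card P := by
      rw [Nat.card_eq_fintype_card]
      exact Finset.card_filter_add_card_filter_not _
    rw [hburn, hPcard] at hsum
    rw [hPcard, hPMcard] at hNP
    refine Nat.eq_of_mul_eq_mul_left he0 ?_
    linarith
  -- the orbits on Y
  letI : Fintype (Quotient (orbitRel P Y)) := Fintype.ofFinite _
  let ω0 : Quotient (orbitRel P Y) := Quotient.mk'' y0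
  have hY : Nat.card Y = ∑ ω : Quotient (orbitRel P Y), (orbit P ω.out).ncard := by
    rw [Nat.card_congr (selfEquivSigmaOrbits P Y), Nat.card_sigma]
    exact Finset.sum_congr rfl fun ω _ => Nat.card_coe_set_eq _
  have hω0 : (orbit P ω0.out).ncard = N := by
    have : orbit P ω0.out = orbit P y0 :=
      orbit_eq_iff.mpr (Quotient.exact' (Quotient.out_eq' ω0))
    rw [this, ← Set.ncard_image_of_injective _ Subtype.val_injective,
      SubMulAction.val_image_orbit, hN]
  have hother : ∀ y : Y, ∃ c1, (orbit P y).ncard * c1 = N * s * c ∧ 2 ≤ c1 := by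
    intro y
    have hZle : Z ≤ stabilizer P y := fun g hg => Subtype.ext (hZfix g hg _)
    obtain ⟨c1, hc1⟩ := Subgroup.card_dvd_of_le hZle
    refine ⟨c1, ?_, ?_⟩
    · have := (stabilizer P y).card_mul_index
      rw [index_stabilizer, hc1, hPcard] at this
      exact Nat.eq_of_mul_eq_mul_left he0 (by rw [← this]; ring)
    · by_contra hlt
      have hpos : 0 < Nat.card (stabilizer P y) := Nat.card_pos
      have h1 : c1 = 1 := by
        rcases Nat.eq_zero_or_pos c1 with h | h
        · rw [h, mul_zero] at hc1; omega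
        · omega
      rw [h1, mul_one] at hc1
      have heq : Z = stabilizer P y := Subgroup.eq_of_le_of_card_ge hZle hc1.le
      obtain ⟨g, hg, hgfix⟩ : ∃ g : P, ¬ IsPM (g : SL(2, K)) ∧ g • y = y := by
        rcases y.2 with hy | hy
        · obtain ⟨h, hh⟩ := hy
          let u : P := h * ⟨upR r0, (hS _).mp hr0S⟩ * h⁻¹
          refine ⟨u, ?_, Subtype.ext ?_⟩
          · simp only [u, Subgroup.coe_mul, Subgroup.coe_inv, isPM_conj]
            exact fun h' => hr0 (by simpa [coe_upR] using h'.2.1)
          · show u • (y : OnePoint L) = y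
            rw [← hh]
            simp only [u, mul_smul, inv_smul_smul]
            congr 1
            rw [hact, fix_infty]
            simp [coe_upR]
        · simp only [Set.mem_iUnion, Set.mem_ofPred_eq] at hy
          obtain ⟨g, hg, hgy⟩ := hy
          exact ⟨g, hg, Subtype.ext hgy⟩
      exact hg ((hZmem g).mp (heq ▸ hgfix))
  have hsplitY : Nat.card Y = N + ∑ ω ∈ Finset.univ.erase ω0, (orbit P ω.out).ncard := by
    rw [hY, ← Finset.add_sum_erase _ _ (Finset.mem_univ ω0), hω0]
  have hErase : (Finset.univ.erase ω0).card + 1 = R := by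
    rw [Finset.card_erase_add_one (Finset.mem_univ ω0), hRdef, Nat.card_eq_fintype_card,
      Finset.card_univ]
  have hNm : N = 1 + m * s := by
    show (orbitPts P).ncard + 1 = _
    rw [hm]; ring
  have hs2 : 2 ≤ s := by omega
  rcases Nat.lt_or_ge R 3 with hR | hR
  · rcases Nat.lt_or_ge R 2 with hR' | hR'
    · exfalso
      have hR1 : R = 1 := by omega
      have hemp : Finset.univ.erase ω0 = ∅ := Finset.card_eq_zero.mp (by omega)
      rw [hemp, Finset.sum_empty, add_zero] at hsplitY
      rw [hR1, hsplitY] at hmain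
      refine orbit_count_one ?_ hc0 hmain
      have : 1 * 1 ≤ m * s := Nat.mul_le_mul hm0 (by omega)
      omega
    · have hR2 : R = 2 := by omega
      obtain ⟨ω1, hω1⟩ := Finset.card_eq_one.mp (show (Finset.univ.erase ω0).card = 1 by omega)
      rw [hω1, Finset.sum_singleton] at hsplitY
      obtain ⟨c1, hc1, -⟩ := hother ω1.out
      rw [hR2, hsplitY] at hmain
      rcases orbit_count_two hs hNm hm0 hc0 hcs hmain hc1 with hm1 | ⟨hs3, hm3⟩
      · exact Or.inl (by rw [hm, hm1, mul_one])
      · exact Or.inr ⟨hs3, by rw [hm, show Nat.card S = 3 from hs3]; omega⟩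
  · exfalso
    refine orbit_count_ge_three hs2 hR hmain ?_
    rw [hsplitY]
    have hle : 2 * ∑ ω ∈ Finset.univ.erase ω0, (orbit P ω.out).ncard ≤
        (Finset.univ.erase ω0).card * (N * s * c) := by
      rw [Finset.mul_sum, ← smul_eq_mul (Finset.card _)]
      refine Finset.sum_le_card_nsmul _ _ _ fun ω _ => ?_
      obtain ⟨c1, hc1, hc2⟩ := hother ω.out
      rw [← hc1, mul_comm 2]
      exact Nat.mul_le_mul_left _ hc2
    rw [← hErase, Nat.add_mul _ 1 (N * s * c), one_mul]
    linarith

theorem card_translations_eq (h2 : (2 : K) ≠ 0) (P : Subgroup SL(2, K)) (S : AddSubgroup K)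
    (hS : ∀ r, r ∈ S ↔ upR r ∈ P) (hs : 5 ≤ Nat.card S) (hne : (orbitPts P).Nonempty) :
    (orbitPts P).ncard = Nat.card S := by
  rcases card_translations_cases h2 P S hS (by omega) hne with h | ⟨h, -⟩
  · exact h
  · omega

/-- The images of ∞ other than ∞ form one coset of the group of translations. -/
theorem sub_mem_translations (h2 : (2 : K) ≠ 0) (P : Subgroup SL(2, K)) (S : AddSubgroup K)
    (hS : ∀ r, r ∈ S ↔ upR r ∈ P) (hs : 5 ≤ Nat.card S) {z w : K} (hz : z ∈ orbitPts P)
    (hw : w ∈ orbitPts P) : z - w ∈ S := by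
  have hcard := card_translations_eq h2 P S hS hs ⟨z, hz⟩
  have hsub : (fun r : K => w + r) '' (S : Set K) ⊆ orbitPts P := by
    rintro _ ⟨r, hr, rfl⟩
    exact translate_mem_orbitPts ((hS r).mp hr) hw
  have heq : (fun r : K => w + r) '' (S : Set K) = orbitPts P :=
    Set.eq_of_subset_of_ncard_le hsub (by
      rw [Set.ncard_image_of_injective _ (add_right_injective w), hcard, ← Nat.card_coe_set_eq]
      rfl) (Set.toFinite _)
  rw [← heq] at hz
  obtain ⟨r, hr, rfl⟩ := hz
  simpa using hr

end Counting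

end Cfsg.Agent.RootSub.Dickson
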