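import Cfsg.Agent.RootSub.Dickson.Defs

/-!
# Hua's identity and additive groups closed under inversion
-/

namespace Cfsg.Agent.RootSub.Dickson

variable {K : Type*} [Field K]

theorem hua_identity {a b : K} (ha : a ≠ 0) (hb : b ≠ 0) (hab : a * b ≠ 1) :
    a - (a⁻¹ + (b⁻¹ - a)⁻¹)⁻¹ = a * b * a := by
  have h1 : b⁻¹ - a ≠ 0 := by
    intro h
    apply hab
    rw [← sub_eq_zero.mp h, inv_mul_cancel₀ hb]
  have h2 : a⁻¹ + (b⁻¹ - a)⁻¹ ≠ 0 := by
    intro h
    rw [add_eq_zero_iff_eq_neg, ← inv_neg, inv_inj, neg_sub] at h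
    exact inv_ne_zero hb (by linear_combination h)
  have h3 : a * b⁻¹ - a * a ≠ 0 := by
    rw [← mul_sub]; exact mul_ne_zero ha h1
  rw [inv_add_inv ha h1, inv_div, add_sub_cancel]
  field_simp
  ring

theorem mul_mul_mem_of_inv_mem (S : AddSubgroup K) (hinv : ∀ a ∈ S, a⁻¹ ∈ S) {a b : K}
    (ha : a ∈ S) (hb : b ∈ S) : a * b * a ∈ S := by
  by_cases ha0 : a = 0
  · subst ha0; simp
  by_cases hb0 : b = 0
  · subst hb0; simp
  by_cases hab : a * b = 1
  · rw [hab, one_mul]; exact ha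
  · rw [← hua_identity ha0 hb0 hab]
    exact sub_mem ha (hinv _ (add_mem (hinv _ ha) (hinv _ (sub_mem (hinv _ hb) ha))))

/-- An additive subgroup with 1, closed under inversion, is closed under products (char ≠ 2),
provided it is closed under halving. -/
theorem mul_mem_of_inv_mem (S : AddSubgroup K) (h1 : (1 : K) ∈ S) (hinv : ∀ a ∈ S, a⁻¹ ∈ S)
    (h2 : (2 : K) ≠ 0) {a b : K} (ha : a ∈ S) (hb : b ∈ S) : a * b ∈ S := by
  have hsq : ∀ c ∈ S, c * c ∈ S := fun c hc => by
    simpa using mul_mul_mem_of_inv_mem S hinv hc h1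
  have h2S : (2 : K) * (a * b) ∈ S := by
    have : (2 : K) * (a * b) = (a + b) * (a + b) - a * a - b * b := by ring
    rw [this]
    exact sub_mem (sub_mem (hsq _ (add_mem ha hb)) (hsq _ ha)) (hsq _ hb)
  have h4 : (2 : K)⁻¹ ∈ S := hinv _ (by rw [← one_add_one_eq_two]; exact add_mem h1 h1)
  have : a * b = (2 : K)⁻¹ * (2 * (2 * (a * b))) * (2 : K)⁻¹ := by field_simp
  rw [this]
  refine mul_mul_mem_of_inv_mem S hinv h4 ?_
  rw [show (2 : K) * (2 * (a * b)) = 2 * (a * b) + 2 * (a * b) by ring]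
  exact add_mem h2S h2S

/-- Such a group containing k and a generator is everything. -/
theorem eq_top_of_inv_mem {k : Type*} [Field k] [Algebra k K] [FiniteDimensional k K]
    (S : AddSubgroup K) (hk : ∀ t : k, algebraMap k K t ∈ S) (lam : K) (hlam : lam ∈ S)
    (hgen : Algebra.adjoin k ({lam} : Set K) = ⊤) (hinv : ∀ a ∈ S, a⁻¹ ∈ S) (h2 : (2 : K) ≠ 0) :
    S = ⊤ := by
  have h1 : (1 : K) ∈ S := by simpa using hk 1
  rw [eq_top_iff]
  intro z _
  have hz : z ∈ Algebra.adjoin k ({lam} : Set K) := by rw [hgen]; exact Algebra.mem_top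
  induction hz using Algebra.adjoin_induction with
  | mem x hx => rw [Set.mem_singleton_iff.mp hx]; exact hlam
  | algebraMap r => exact hk r
  | add x y _ _ hx hy => exact add_mem (hx (AddSubgroup.mem_top _)) (hy (AddSubgroup.mem_top _))
  | mul x y _ _ hx hy =>
    exact mul_mem_of_inv_mem S h1 hinv h2 (hx (AddSubgroup.mem_top _)) (hy (AddSubgroup.mem_top _))

end Cfsg.Agent.RootSub.Dickson
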