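import Cfsg.Agent.RootSub.Dickson.Counting
import Cfsg.Agent.RootSub.Dickson.Common
import Cfsg.Agent.RootSub.Dickson.Hua

/-!
# Dickson's theorem over a finite field
-/

namespace Cfsg.Agent.RootSub.Dickson

open Matrix
open scoped MatrixGroups

variable {k K : Type*} [Field k] [Field K] [Algebra k K]

/-- The element x(1/λ) y(-λ) x(1/λ). -/
theorem weyl_entries {lam : K} (hlam : lam ≠ 0) :
    (upR lam⁻¹ * lowR (-lam) * upR lam⁻¹ : SL(2, K)) 0 0 = 0 ∧
      (upR lam⁻¹ * lowR (-lam) * upR lam⁻¹ : SL(2, K)) 1 0 = -lam := by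
  constructor <;>
    simp [coe_upR, coe_lowR, Matrix.mul_apply, Fin.sum_univ_two, hlam]

theorem dicksonGroup_eq_top_of_five [Finite k] [FiniteDimensional k K] (h2 : (2 : K) ≠ 0)
    {lam : K} (hlam : lam ≠ 0) (hs : 5 ≤ Nat.card (transGroup (dicksonGroup k lam)))
    (hgen : Algebra.adjoin k ({lam} : Set K) = ⊤) : dicksonGroup k lam = ⊤ := by
  haveI : Finite K := Module.finite_of_finite k
  set P := dicksonGroup k lam with hP
  set S := transGroup P with hSdef
  have hkS : ∀ t : k, algebraMap k K t ∈ S := fun t => upR_mem k lam t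
  have hsub : ∀ {z w : K}, z ∈ orbitPts P → w ∈ orbitPts P → z - w ∈ S :=
    fun hz hw => sub_mem_translations h2 P S (fun _ => Iff.rfl) hs hz hw
  have hpt : ∀ b : K, lowR b ∈ P → b ≠ 0 → b⁻¹ ∈ orbitPts P := fun b hb hb0 =>
    ⟨lowR b, hb, by simpa [coe_lowR] using hb0, by simp [coe_lowR]⟩
  -- k/λ lies in S
  have h1 : ∀ u : k, u ≠ 0 → (algebraMap k K u - 1) * lam⁻¹ ∈ S := by
    intro u hu
    have a := hpt _ (lowR_mem k lam u⁻¹) (mul_ne_zero (by simpa using hu) hlam)
    have b := hpt _ (lowR_mem k lam 1) (mul_ne_zero (by simp) hlam)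
    have := hsub a b
    simpa [map_inv₀, mul_comm, sub_mul, mul_sub] using this
  have h3 : lam⁻¹ ∈ S := by
    have h2k : (2 : k) ≠ 0 := fun h => h2 (by
      have := congrArg (algebraMap k K) h
      simpa [map_ofNat] using this)
    have := h1 2 h2k
    rwa [map_ofNat, show (2 : K) - 1 = 1 by norm_num, one_mul] at this
  have hkl : ∀ v : k, algebraMap k K v * lam⁻¹ ∈ S := by
    intro v
    by_cases hv : v + 1 = 0
    · rw [eq_neg_of_add_eq_zero_left hv, map_neg, map_one, neg_one_mul]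
      exact neg_mem h3
    · simpa using h1 (v + 1) hv
  -- the element interchanging 0 and ∞
  set w : SL(2, K) := upR lam⁻¹ * lowR (-lam) * upR lam⁻¹ with hw
  have hwP : w ∈ P := by
    refine mul_mem (mul_mem h3 ?_) h3
    simpa using lowR_mem k lam (-1)
  obtain ⟨hw00, hw10⟩ := weyl_entries hlam
  have hzero : (0 : K) ∈ orbitPts P :=
    ⟨w, hwP, by rw [hw, hw10]; simpa using hlam, by rw [hw, hw00, zero_div]⟩
  have hinv : ∀ r ∈ S, (lam ^ 2 * r)⁻¹ ∈ S := by
    intro r hr
    rcases eq_or_ne r 0 with rfl | hr0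
    · simp
    have hconj := mul_mem (mul_mem hwP hr) (inv_mem hwP)
    rw [conj_upR (hw ▸ hw00)] at hconj
    have hpt' := hpt _ hconj (by rw [hw, hw10]; simp [hlam, hr0])
    have := neg_mem (hsub hpt' hzero)
    convert this using 1
    rw [hw, hw10]
    simp [inv_neg]
  -- S' = λ S is everything
  let S' : AddSubgroup K := S.comap (AddMonoidHom.mulRight lam⁻¹)
  have hS' : S' = ⊤ := by
    refine eq_top_of_inv_mem S' (fun t => hkl t) lam ?_ hgen (fun a ha => ?_) h2
    · show lam * lam⁻¹ ∈ S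
      rw [mul_inv_cancel₀ hlam]; simpa using hkS 1
    · show a⁻¹ * lam⁻¹ ∈ S
      have := hinv _ ha
      convert this using 1
      simp only [AddMonoidHom.mulRight_apply]
      field_simp
  refine eq_top_of_weyl (fun r => ?_) hwP (hw ▸ hw00)
  have : r * lam ∈ S' := hS' ▸ AddSubgroup.mem_top _
  have h : r * lam * lam⁻¹ ∈ S := this
  rwa [mul_inv_cancel_right₀ hlam] at h

theorem dicksonGroup_eq_top_finite [Finite k] [FiniteDimensional k K] (h2 : (2 : K) ≠ 0)
    (hk : 5 ≤ Nat.card k) {lam : K} (hlam : lam ≠ 0)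
    (hgen : Algebra.adjoin k ({lam} : Set K) = ⊤) : dicksonGroup k lam = ⊤ := by
  haveI : Finite K := Module.finite_of_finite k
  refine dicksonGroup_eq_top_of_five h2 hlam (hk.trans (Nat.card_le_card_of_injective
    (fun t : k => (⟨_, upR_mem k lam t⟩ : transGroup (dicksonGroup k lam)))
    fun a b h => (algebraMap k K).injective (congrArg Subtype.val h))) hgen

end Cfsg.Agent.RootSub.Dickson
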