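import Cfsg.Agent.RootSub.Dickson.Defs

/-!
# Fixed points of SL₂(K) on the projective line over an algebraically closed extension
-/

namespace Cfsg.Agent.RootSub.Dickson

open Matrix OnePoint
open scoped MatrixGroups

variable {K : Type*} [Field K] {L : Type*} [Field L] [Algebra K L] [DecidableEq L]

/-- SL₂(K) inside GL₂(L). -/
noncomputable def toGLExt : SL(2, K) →* GL (Fin 2) L :=
  Matrix.SpecialLinearGroup.toGL.comp (Matrix.SpecialLinearGroup.map (algebraMap K L))

theorem toGLExt_apply (g : SL(2, K)) (i j : Fin 2) :
    (toGLExt g : GL (Fin 2) L) i j = algebraMap K L (g i j) := by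
  simp [toGLExt, Matrix.SpecialLinearGroup.map_apply_coe, RingHom.mapMatrix_apply]

theorem det_eq_one (g : SL(2, K)) : g 0 0 * g 1 1 - g 0 1 * g 1 0 = 1 := by
  rw [← Matrix.det_fin_two]; exact g.2

/-- Membership in the centre {1, -1}. -/
def IsPM (g : SL(2, K)) : Prop := g 1 0 = 0 ∧ g 0 1 = 0 ∧ g 0 0 = g 1 1

theorem isPM_iff {g : SL(2, K)} : IsPM g ↔ g = 1 ∨ g = -1 := by
  constructor
  · rintro ⟨h10, h01, hd⟩
    have h := det_eq_one g
    rw [h10, h01, ← hd, mul_zero, sub_zero] at h
    have : g 0 0 = 1 ∨ g 0 0 = -1 := by
      rcases mul_self_eq_one_iff.mp h with h' | h'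
      exacts [Or.inl h', Or.inr h']
    rcases this with h' | h'
    · left
      apply Subtype.ext
      ext i j
      fin_cases i <;> fin_cases j <;> simp [h10, h01, ← hd, h']
    · right
      apply Subtype.ext
      ext i j
      fin_cases i <;> fin_cases j <;> simp [h10, h01, ← hd, h']
  · rintro (rfl | rfl) <;> simp [IsPM]

theorem fix_infty (g : SL(2, K)) :
    (toGLExt g : GL (Fin 2) L) • (∞ : OnePoint L) = ∞ ↔ g 1 0 = 0 := by
  rw [smul_infty_eq_self_iff, toGLExt_apply, map_eq_zero]

theorem fix_some (g : SL(2, K)) (z : L) :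
    (toGLExt g : GL (Fin 2) L) • (z : OnePoint L) = z ↔
      algebraMap K L (g 1 0) * z ^ 2 + (algebraMap K L (g 1 1) - algebraMap K L (g 0 0)) * z -
        algebraMap K L (g 0 1) = 0 := by
  simp only [smul_some_eq_ite, toGLExt_apply]
  have hdet : algebraMap K L (g 0 0) * algebraMap K L (g 1 1) -
      algebraMap K L (g 0 1) * algebraMap K L (g 1 0) = 1 := by
    rw [← map_mul, ← map_mul, ← map_sub, det_eq_one, map_one]
  split_ifs with h
  · constructor
    · intro h'; exact absurd h' (OnePoint.infty_ne_coe z)
    · intro h'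
      exfalso
      have h1 : algebraMap K L (g 0 0) * z + algebraMap K L (g 0 1) = 0 := by
        linear_combination z * h - h'
      have : (1 : L) = 0 := by
        linear_combination (-1 : L) * hdet + algebraMap K L (g 0 0) * h - algebraMap K L (g 1 0) * h1
      exact one_ne_zero this
  · rw [OnePoint.coe_eq_coe, div_eq_iff h]
    constructor <;> intro h' <;> linear_combination -h'

/-- The points fixed by g. -/
def fixSet (L : Type*) [Field L] [Algebra K L] [DecidableEq L] (g : SL(2, K)) : Set (OnePoint L) :=
  {x | (toGLExt g : GL (Fin 2) L) • x = x}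

variable [IsAlgClosed L]

theorem fixSet_card (h2 : (2 : K) ≠ 0) {g : SL(2, K)} (hg : ¬ IsPM g) :
    ((g 0 0 + g 1 1) ^ 2 = 4 → ∃ x, fixSet L g = {x}) ∧
      ((g 0 0 + g 1 1) ^ 2 ≠ 4 → ∃ x y, x ≠ y ∧ fixSet L g = {x, y}) := by
  have hd := det_eq_one g
  set a := algebraMap K L (g 0 0) with ha
  set b := algebraMap K L (g 0 1) with hb
  set c := algebraMap K L (g 1 0) with hc
  set d := algebraMap K L (g 1 1) with hd'
  have hdet : a * d - b * c = 1 := by
    rw [ha, hb, hc, hd', ← map_mul, ← map_mul, ← map_sub, hd, map_one]
  have h2L : (2 : L) ≠ 0 := by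
    rw [← map_ofNat (algebraMap K L) 2, map_ne_zero]; exact h2
  have h4 : (g 0 0 + g 1 1) ^ 2 = 4 ↔ (a + d) ^ 2 = 4 := by
    rw [ha, hd', ← map_add, ← map_pow, ← map_ofNat (algebraMap K L) 4]
    exact (RingHom.injective _).eq_iff.symm
  by_cases hc0 : c = 0
  · have hg10 : g 1 0 = 0 := (map_eq_zero _).mp hc0
    have had : a * d = 1 := by linear_combination hdet + b * hc0
    have hinf : (∞ : OnePoint L) ∈ fixSet L g := (fix_infty g).mpr hg10
    by_cases hda : d = a
    · have hb0 : b ≠ 0 := by
        intro hb0
        exact hg ⟨hg10, (map_eq_zero _).mp hb0, (RingHom.injective _) hda.symm⟩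
      have hset : fixSet L g = {∞} := by
        refine Set.Subset.antisymm (fun x hx => ?_) (by simpa using hinf)
        cases x with
        | infty => rfl
        | coe z =>
          exfalso
          have hx' := (fix_some g z).mp hx
          rw [← hc, ← hd', ← ha, ← hb, hc0, hda] at hx'
          exact hb0 (by linear_combination -hx')
      refine ⟨fun _ => ⟨_, hset⟩, fun h => absurd (h4.mpr ?_) h⟩
      rw [hda] at had ⊢
      linear_combination 4 * had
    · have hne : d - a ≠ 0 := sub_ne_zero.mpr hda
      have hset : fixSet L g = {∞, ((b / (d - a) : L) : OnePoint L)} := by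
        ext x
        cases x with
        | infty => simpa using hinf
        | coe z =>
          simp only [Set.mem_insert_iff, OnePoint.coe_ne_infty, false_or, Set.mem_singleton_iff,
            OnePoint.coe_eq_coe]
          show _ = _ ↔ _
          rw [fix_some, ← hc, ← hd', ← ha, ← hb, hc0, eq_div_iff hne]
          constructor <;> intro h <;> linear_combination h
      refine ⟨fun h => absurd ?_ hne, fun _ => ⟨_, _, OnePoint.infty_ne_coe _, hset⟩⟩
      have h' := h4.mp h
      exact pow_eq_zero_iff (n := 2) (by norm_num) |>.mp (by linear_combination h' - 4 * had)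
  · obtain ⟨r, hr⟩ := IsAlgClosed.exists_eq_mul_self ((a + d) ^ 2 - 4)
    have hden : 2 * c ≠ 0 := mul_ne_zero h2L hc0
    set z1 := (a - d + r) / (2 * c) with hz1
    set z2 := (a - d - r) / (2 * c) with hz2
    have hset : fixSet L g = {((z1 : L) : OnePoint L), ((z2 : L) : OnePoint L)} := by
      ext x
      cases x with
      | infty =>
        simp only [Set.mem_insert_iff, OnePoint.infty_ne_coe, Set.mem_singleton_iff, or_self,
          iff_false]
        exact fun h => hc0 (by rw [hc, (fix_infty g).mp h, map_zero])
      | coe z =>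
        simp only [Set.mem_insert_iff, Set.mem_singleton_iff, OnePoint.coe_eq_coe]
        show _ = _ ↔ _
        rw [fix_some, ← hc, ← hd', ← ha, ← hb]
        have key : (c * z ^ 2 + (d - a) * z - b) * (4 * c) =
            (2 * c * z - (a - d + r)) * (2 * c * z - (a - d - r)) := by
          linear_combination (-1 : L) * hr + 4 * hdet
        have h4c : (4 * c : L) ≠ 0 := by
          rw [show (4 : L) = 2 * 2 by norm_num]; exact mul_ne_zero (mul_ne_zero h2L h2L) hc0
        constructor
        · intro h
          rw [h, zero_mul] at key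
          rcases mul_eq_zero.mp key.symm with h' | h'
          · left; rw [hz1, eq_div_iff hden]; linear_combination h'
          · right; rw [hz2, eq_div_iff hden]; linear_combination h'
        · intro h
          refine (mul_eq_zero.mp (key.trans ?_)).resolve_right h4c
          rcases h with h | h
          · rw [hz1, eq_div_iff hden] at h
            rw [show 2 * c * z - (a - d + r) = 0 by linear_combination h, zero_mul]
          · rw [hz2, eq_div_iff hden] at h
            rw [show 2 * c * z - (a - d - r) = 0 by linear_combination h, mul_zero]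
    constructor
    · intro h
      have hr0 : r = 0 := by
        have : r * r = 0 := by linear_combination h4.mp h - hr
        exact mul_self_eq_zero.mp this
      refine ⟨(z1 : OnePoint L), ?_⟩
      rw [hset, hz1, hz2, hr0, add_zero, sub_zero, Set.pair_eq_singleton]
    · intro h
      refine ⟨_, _, ?_, hset⟩
      rw [Ne, OnePoint.coe_eq_coe, hz1, hz2, div_left_inj' hden]
      intro h'
      apply h
      rw [h4]
      have : r = 0 := by
        have : (2 : L) * r = 0 := by linear_combination h'
        exact (mul_eq_zero.mp this).resolve_left h2L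
      linear_combination hr + r * this

theorem finite_fixSet (h2 : (2 : K) ≠ 0) {g : SL(2, K)} (hg : ¬ IsPM g) :
    (fixSet L g).Finite := by
  obtain ⟨h1, h1'⟩ := fixSet_card (L := L) h2 hg
  by_cases h : (g 0 0 + g 1 1) ^ 2 = 4
  · obtain ⟨x, hx⟩ := h1 h; rw [hx]; exact Set.finite_singleton x
  · obtain ⟨x, y, -, hx⟩ := h1' h; rw [hx]; exact (Set.finite_singleton y).insert x

end Cfsg.Agent.RootSub.Dickson
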