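import Cfsg.Agent.RootSub.Dickson.Common

/-!
# Orthogonal polynomials and elements of the Dickson group

For a linear functional φ on K = k[λ] whose Hankel forms (a, b) ↦ φ(λ^(a+b)) and
(a, b) ↦ φ(λ^(a+b+1)) are non-degenerate on all initial segments, the monic orthogonal
polynomials give a path in the Dickson group from ∞ to 0.
-/

namespace Cfsg.Agent.RootSub.Dickson

open Polynomial
open scoped MatrixGroups

variable {k K : Type*} [Field k] [Field K] [Algebra k K]

/-- The Hankel form of φ shifted by s is non-degenerate on polynomials of degree < j. -/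
def NonDegAt (φ : K →ₗ[k] k) (lam : K) (s j : ℕ) : Prop :=
  ∀ f : k[X], f.degree < j → (∀ i < j, φ (aeval lam f * lam ^ (i + s)) = 0) → f = 0

/-- Monic of degree j and orthogonal to smaller degrees. -/
structure IsOrth (φ : K →ₗ[k] k) (lam : K) (s j : ℕ) (p : k[X]) : Prop where
  monic : p.Monic
  deg : p.natDegree = j
  orth : ∀ i < j, φ (aeval lam p * lam ^ (i + s)) = 0

variable {φ : K →ₗ[k] k} {lam : K} {s j : ℕ}

theorem exists_isOrth (h : NonDegAt φ lam s j) : ∃ p, IsOrth φ lam s j p := by
  classical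
  let Φ : degreeLT k j →ₗ[k] (Fin j → k) := LinearMap.pi fun i =>
    φ.comp ((LinearMap.mulRight k (lam ^ ((i : ℕ) + s))).comp
      ((aeval lam).toLinearMap.comp (degreeLT k j).subtype))
  have hΦinj : Function.Injective Φ := by
    rw [← LinearMap.ker_eq_bot, LinearMap.ker_eq_bot']
    intro f hf
    apply Subtype.ext
    exact h f (mem_degreeLT.mp f.2) fun i hi => congrFun hf ⟨i, hi⟩
  haveI : FiniteDimensional k (degreeLT k j) := (degreeLTEquiv k j).symm.finiteDimensional
  have hΦsurj : Function.Surjective Φ :=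
    (LinearMap.injective_iff_surjective_of_finrank_eq_finrank
      (LinearEquiv.finrank_eq (degreeLTEquiv k j))).mp hΦinj
  obtain ⟨⟨r, hr⟩, hΦr⟩ := hΦsurj fun i => φ (lam ^ j * lam ^ ((i : ℕ) + s))
  rw [mem_degreeLT] at hr
  refine ⟨X ^ j - r, monic_X_pow_sub (by simpa using hr), ?_, fun i hi => ?_⟩
  · apply natDegree_eq_of_degree_eq_some
    rw [degree_sub_eq_left_of_degree_lt] <;> simp [hr]
  · have := congrFun hΦr ⟨i, hi⟩
    simp only [Φ, LinearMap.pi_apply, LinearMap.comp_apply, LinearMap.mulRight_apply,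
      Submodule.subtype_apply, AlgHom.toLinearMap_apply] at this
    rw [map_sub, sub_mul, map_sub, this, map_pow, aeval_X, sub_self]

/-- A polynomial of degree ≤ j orthogonal to smaller degrees is a multiple of the monic one. -/
theorem eq_C_mul_of_orth (h : NonDegAt φ lam s j) {p r : k[X]} (hp : IsOrth φ lam s j p)
    (hdeg : r.natDegree ≤ j) (hr : ∀ i < j, φ (aeval lam r * lam ^ (i + s)) = 0) :
    r = C (r.coeff j) * p := by
  refine sub_eq_zero.mp (h _ ?_ fun i hi => ?_)
  · rw [degree_lt_iff_coeff_zero]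
    intro m hm
    rw [coeff_sub, coeff_C_mul]
    rcases Nat.eq_or_lt_of_le hm with rfl | hlt
    · have : p.coeff j = 1 := by rw [← hp.deg]; exact hp.monic.coeff_natDegree
      rw [this, mul_one, sub_self]
    · rw [coeff_eq_zero_of_natDegree_lt (p := r) (by omega),
        coeff_eq_zero_of_natDegree_lt (p := p) (by rw [hp.deg]; omega), mul_zero, sub_zero]
  · rw [map_sub, sub_mul, map_sub, hr i hi, map_mul (aeval lam), aeval_C, mul_assoc, ← Algebra.smul_def,
      LinearMap.map_smul, hp.orth i hi, smul_zero, sub_zero]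

/-- One step: `p' = X q - e p` with `e ≠ 0`. -/
theorem step_p (h0 : NonDegAt φ lam 0 j) (h1 : NonDegAt φ lam 1 (j + 1)) {p q p' : k[X]}
    (hp : IsOrth φ lam 0 j p) (hq : IsOrth φ lam 1 j q) (hp' : IsOrth φ lam 0 (j + 1) p') :
    ∃ e : k, e ≠ 0 ∧ p' = X * q - C e * p := by
  have hXq : (X * q).natDegree = j + 1 := by
    rw [natDegree_X_mul hq.monic.ne_zero, hq.deg]
  have hdiff : (X * q - p').natDegree ≤ j := by
    rw [natDegree_le_iff_coeff_eq_zero]
    intro m hm
    rw [coeff_sub]
    rcases Nat.eq_or_lt_of_le (Nat.succ_le_of_lt hm) with rfl | hlt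
    · have e1 : (X * q).coeff (j + 1) = 1 := by
        rw [← hXq]; exact (monic_X.mul hq.monic).coeff_natDegree
      have e2 : p'.coeff (j + 1) = 1 := by rw [← hp'.deg]; exact hp'.monic.coeff_natDegree
      rw [Nat.succ_eq_add_one, e1, e2, sub_self]
    · rw [coeff_eq_zero_of_natDegree_lt (by omega), coeff_eq_zero_of_natDegree_lt
        (by rw [hp'.deg]; omega), sub_zero]
  have heq := eq_C_mul_of_orth h0 hp hdiff fun i hi => by
    have h' : aeval lam (X * q) * lam ^ (i + 0) = aeval lam q * lam ^ (i + 1) := by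
      rw [map_mul, aeval_X, add_zero, pow_succ]; ring
    rw [map_sub, sub_mul, map_sub, hp'.orth i (by omega), h', hq.orth i hi, sub_zero]
  refine ⟨(X * q - p').coeff j, fun he => ?_, by linear_combination (-1 : k[X]) * heq⟩
  rw [he, map_zero, zero_mul, sub_eq_zero] at heq
  refine hq.monic.ne_zero (h1 q ?_ fun i hi => ?_)
  · exact lt_of_le_of_lt (degree_le_of_natDegree_le hq.deg.le) (by exact_mod_cast Nat.lt_succ_self j)
  · have := hp'.orth i hi
    rw [← heq, map_mul (aeval lam), aeval_X, add_zero] at this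
    rw [pow_succ]
    convert this using 2
    ring

/-- One step: `q' = p' - d q` with `d ≠ 0`. -/
theorem step_q (h1 : NonDegAt φ lam 1 j) (h0 : NonDegAt φ lam 0 (j + 2)) {q p' q' : k[X]}
    (hq : IsOrth φ lam 1 j q) (hp' : IsOrth φ lam 0 (j + 1) p')
    (hq' : IsOrth φ lam 1 (j + 1) q') : ∃ d : k, d ≠ 0 ∧ q' = p' - C d * q := by
  have hdiff : (p' - q').natDegree ≤ j := by
    rw [natDegree_le_iff_coeff_eq_zero]
    intro m hm
    rw [coeff_sub]
    rcases Nat.eq_or_lt_of_le (Nat.succ_le_of_lt hm) with rfl | hlt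
    · have e2 : p'.coeff (j + 1) = 1 := by rw [← hp'.deg]; exact hp'.monic.coeff_natDegree
      have e1 : q'.coeff (j + 1) = 1 := by rw [← hq'.deg]; exact hq'.monic.coeff_natDegree
      rw [Nat.succ_eq_add_one, e1, e2, sub_self]
    · rw [coeff_eq_zero_of_natDegree_lt (by rw [hp'.deg]; omega), coeff_eq_zero_of_natDegree_lt
        (by rw [hq'.deg]; omega), sub_zero]
  have heq := eq_C_mul_of_orth h1 hq hdiff fun i hi => by
    rw [map_sub, sub_mul, map_sub, hq'.orth i (by omega)]
    have := hp'.orth (i + 1) (by omega)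
    rw [add_zero] at this
    rw [this, sub_zero]
  refine ⟨(p' - q').coeff j, fun hd => ?_, by linear_combination (-1 : k[X]) * heq⟩
  rw [hd, map_zero, zero_mul, sub_eq_zero] at heq
  refine hp'.monic.ne_zero (h0 p' ?_ fun i hi => ?_)
  · exact lt_of_le_of_lt (degree_le_of_natDegree_le hp'.deg.le)
      (by exact_mod_cast Nat.lt_succ_self (j + 1))
  · rcases Nat.lt_or_ge i (j + 1) with h | h
    · exact hp'.orth i h
    · obtain rfl : i = j + 1 := by omega
      rw [heq, add_zero]
      exact hq'.orth j (by omega)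

theorem isOrth_zero_eq_one {p : k[X]} (hp : IsOrth φ lam s 0 p) : p = 1 :=
  eq_one_of_monic_natDegree_zero hp.monic hp.deg

/-- The path from ∞: every pair (p_j, λ q_j) is a first column, up to scalars. -/
theorem exists_path {m : ℕ} (hG : ∀ i ≤ m + 1, NonDegAt φ lam 0 i)
    (hH : ∀ i ≤ m + 1, NonDegAt φ lam 1 i) (j : ℕ) (hj : j ≤ m) :
    ∀ p q, IsOrth φ lam 0 j p → IsOrth φ lam 1 j q →
      ∃ g ∈ dicksonGroup k lam, ∃ c c' : k, c ≠ 0 ∧ c' ≠ 0 ∧
        g 0 0 = algebraMap k K c * aeval lam p ∧
          g 1 0 = algebraMap k K c' * (lam * aeval lam q) := by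
  induction j with
  | zero =>
    intro p q hp hq
    refine ⟨lowR (algebraMap k K 1 * lam), lowR_mem k lam 1, 1, 1, one_ne_zero, one_ne_zero, ?_⟩
    rw [isOrth_zero_eq_one hp, isOrth_zero_eq_one hq]
    simp [coe_lowR]
  | succ j ih =>
    intro p' q' hp' hq'
    obtain ⟨p, hp⟩ := exists_isOrth (hG j (by omega))
    obtain ⟨q, hq⟩ := exists_isOrth (hH j (by omega))
    obtain ⟨e, he, hpe⟩ := step_p (hG j (by omega)) (hH (j + 1) (by omega)) hp hq hp'
    obtain ⟨d, hd, hqd⟩ := step_q (hH j (by omega)) (hG (j + 2) (by omega)) hq hp' hq'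
    obtain ⟨g, hg, c, c', hc, hc', h00, h10⟩ := ih (by omega) p q hp hq
    set t : k := -c / (e * c') with ht
    set c2 : k := t * c' with hc2
    have hc2ne : c2 ≠ 0 := by
      rw [hc2, ht]
      exact mul_ne_zero (div_ne_zero (neg_ne_zero.mpr hc) (mul_ne_zero he hc')) hc'
    have hte : c = -(c2 * e) := by
      rw [hc2, ht]; field_simp
    set u : k := -c' / (d * c2) with hu
    set c3 : k := u * c2 with hc3
    have hc3ne : c3 ≠ 0 := by
      rw [hc3, hu]
      exact mul_ne_zero (div_ne_zero (neg_ne_zero.mpr hc') (mul_ne_zero hd hc2ne)) hc2ne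
    have hud : c' = -(c3 * d) := by
      rw [hc3, hu]; field_simp
    refine ⟨lowR (algebraMap k K u * lam) * (upR (algebraMap k K t) * g),
      mul_mem (lowR_mem k lam u) (mul_mem (upR_mem k lam t) hg), c2, c3, hc2ne, hc3ne, ?_⟩
    have hP : aeval lam p' = lam * aeval lam q - algebraMap k K e * aeval lam p := by
      rw [hpe]; simp
    have hQ : aeval lam q' = aeval lam p' - algebraMap k K d * aeval lam q := by
      rw [hqd]; simp
    have hteK : algebraMap k K c = -(algebraMap k K c2 * algebraMap k K e) := by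
      rw [← map_mul, ← map_neg, ← hte]
    have hudK : algebraMap k K c' = -(algebraMap k K c3 * algebraMap k K d) := by
      rw [← map_mul, ← map_neg, ← hud]
    have hc2K : algebraMap k K c2 = algebraMap k K t * algebraMap k K c' := by
      rw [hc2, map_mul]
    have hc3K : algebraMap k K c3 = algebraMap k K u * algebraMap k K c2 := by
      rw [hc3, map_mul]
    have hfirst : (upR (algebraMap k K t) * g : SL(2, K)) 0 0 =
        algebraMap k K c2 * aeval lam p' := by
      simp [coe_upR, Matrix.mul_apply, Fin.sum_univ_two, h00, h10]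
      linear_combination aeval lam p * hteK - lam * aeval lam q * hc2K -
        algebraMap k K c2 * hP
    have hsecond : (upR (algebraMap k K t) * g : SL(2, K)) 1 0 = g 1 0 := by
      simp [coe_upR, Matrix.mul_apply, Fin.sum_univ_two]
    constructor
    · rw [Matrix.SpecialLinearGroup.coe_mul, Matrix.mul_apply, Fin.sum_univ_two, hfirst]
      simp [coe_lowR]
    · rw [Matrix.SpecialLinearGroup.coe_mul, Matrix.mul_apply, Fin.sum_univ_two, hfirst, hsecond,
        h10]
      simp [coe_lowR]
      linear_combination lam * aeval lam q * hudK - lam * aeval lam p' * hc3K -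
        lam * algebraMap k K c3 * hQ

end Cfsg.Agent.RootSub.Dickson
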